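import Groth.Agent.L12.KBunQ.Push
import Mathlib.Order.Filter.Germ.Basic

/-!
# `K` of a projective bundle is free over the base, over any quasi-compact scheme
-/

set_option autoImplicit false
set_option maxHeartbeats 400000
set_option linter.style.haveILetI false
set_option linter.unusedSectionVars false
set_option backward.isDefEq.respectTransparency false
set_option backward.isDefEq.respectTransparency.types false

universe u

open CategoryTheory CategoryTheory.Limits AlgebraicGeometry TopologicalSpace Opposite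

attribute [local instance] HasDerivedCategory.standard

noncomputable section

namespace Groth.L12.KBunQ

open Groth.L12.Kvb (KR)
open Groth.L12.ExtSh (wedgeMod)
open Groth.L00.Tensor (tensorIso tensorRightF tensorUnitRight tensorUnitLeft tensorAssoc tensorComm tensorPowAdd)
open Groth.L12.KBun (Atlas CV Good good_tw tautSC tw isInvertible_tw cSC Van)

variable {S P : Scheme.{u}} {π : P ⟶ S} {O1 L : P.Modules} {r : ℕ} {E : S.Modules}
  {q : (Scheme.Modules.pullback π).obj E ⟶ O1}

namespace Setup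

variable (D : Setup π q L r) (A : Atlas π O1 r)

/-- The sequence of the direct images of the twists of `M`. -/
def seq (_D : Setup π q L r) (M : P.Modules) : (Filter.atTop : Filter ℕ).Germ (KR S) :=
  ((fun m : ℕ => pc π (CohB1.tensorMod M (CohB1.tensorPow O1 m))) : ℕ → KR S)

include D A in
theorem seq_add [CompactSpace S] (T : ShortComplex P.Modules) (hT : T.ShortExact) (h₁ : FlatMod.IsFinLocFree T.X₁)
    (h₂ : FlatMod.IsFinLocFree T.X₂) (h₃ : FlatMod.IsFinLocFree T.X₃) :
    D.seq T.X₂ = D.seq T.X₁ + D.seq T.X₃ := by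
  obtain ⟨d₁, hd₁⟩ := exists_eventual A D.hO h₁
  obtain ⟨d₂, hd₂⟩ := exists_eventual A D.hO h₂
  obtain ⟨d₃, hd₃⟩ := exists_eventual A D.hO h₃
  let f : P.Modules → ℕ → KR S := fun M m => pc π (CohB1.tensorMod M (CohB1.tensorPow O1 m))
  have hev : f T.X₂ =ᶠ[Filter.atTop] f T.X₁ + f T.X₃ := by
    refine Filter.eventually_atTop.2 ⟨max d₁ (max d₂ d₃), fun m hm => ?_⟩
    have hg₁ : Good A (CohB1.tensorMod T.X₁ (tw O1 L (m : ℤ))) :=
      good_tw A D.hO D.hL D.hLO h₁ fun q hq => hd₁ m (by omega) q hq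
    have hg₂ : Good A (CohB1.tensorMod T.X₂ (tw O1 L (m : ℤ))) :=
      good_tw A D.hO D.hL D.hLO h₂ fun q hq => hd₂ m (by omega) q hq
    have hg₃ : Good A (CohB1.tensorMod T.X₃ (tw O1 L (m : ℤ))) :=
      good_tw A D.hO D.hL D.hLO h₃ fun q hq => hd₃ m (by omega) q hq
    exact pc_shortExact A
      (T := T.map (tensorRightF (tw O1 L (m : ℤ))))
      (Groth.L03.Euler.shortExact_tensor (isInvertible_tw D.hO D.hL (m : ℤ)) hT) hg₁ hg₂ hg₃
  exact (Filter.Germ.coe_eq.2 hev).trans (Filter.Germ.coe_add (f T.X₁) (f T.X₃))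

include A in
theorem exists_germHom [CompactSpace S] : ∃ Φ : KR P →+ (Filter.atTop : Filter ℕ).Germ (KR S), ∀ M : P.Modules,
    FlatMod.IsFinLocFree M → Φ (kc P M) = D.seq M :=
  ⟨Groth.L29.KSub.lift (P := _root_.KRR.vbP P) D.seq (D.seq_add A),
    fun _ hM => Groth.L29.KSub.lift_clSub _ _ hM⟩

variable (g : KR S →+* KR P)
  (hg : ∀ M, FlatMod.IsFinLocFree M → g (kc S M) = kc P ((Scheme.Modules.pullback π).obj M))

variable [Coh.IsQCoh E] [Coh.IsQCoh (tautSC q).X₁] [Coh.IsQCoh O1]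

include A in
theorem seq_pull {N : S.Modules} (hN : FlatMod.IsFinLocFree N) (i : ℕ) :
    D.seq (CohB1.tensorMod ((Scheme.Modules.pullback π).obj N) (CohB1.tensorPow O1 i)) =
      ((fun m : ℕ => kc S N * D.s ((i + m : ℕ) : ℤ)) : ℕ → KR S) := by
  refine congrArg Filter.Germ.ofFun (funext fun m => ?_)
  have h := D.good_pull A hN (d := ((i + m : ℕ) : ℤ)) (by omega)
  exact (pc_iso A (tensorIso (Iso.refl _) (tensorPowAdd O1 i m).symm ≪≫ (tensorAssoc _ _ _).symm) h).symm.trans
    (pc_pull_tensor A hN (M := tw O1 L ((i + m : ℕ) : ℤ)) (D.good_O A (by omega)))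

include A D hg in
/-- A relation among the twists gives a relation among their direct images. -/
theorem eventually_eq_zero [CompactSpace S] {a : ℕ → KR S}
    (h : ∑ i ∈ Finset.range (r + 1), g (a i) * kc P O1 ^ i = 0) :
    ∃ N : ℕ, ∀ m : ℕ, N ≤ m → ∑ i ∈ Finset.range (r + 1), a i * D.s ((i + m : ℕ) : ℤ) = 0 := by
  obtain ⟨Φ, hΦ⟩ := D.exists_germHom A
  have key : ∀ (i : ℕ) (x : KR S),
      Φ (g x * kc P O1 ^ i) = ((fun m : ℕ => x * D.s ((i + m : ℕ) : ℤ)) : ℕ → KR S) := by
    intro i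
    let R : KR S →+ (Filter.atTop : Filter ℕ).Germ (KR S) :=
      (Filter.Germ.coeAddHom (Filter.atTop : Filter ℕ) (M := KR S)).comp
        (AddMonoidHom.mk' (fun x (m : ℕ) => x * D.s ((i + m : ℕ) : ℤ)) fun a b => funext fun m => add_mul a b _)
    suffices H : Φ.comp ((AddMonoidHom.mulRight (kc P O1 ^ i)).comp g.toAddMonoidHom) = R from
      fun x => DFunLike.congr_fun H x
    refine KR_hom_ext fun N hN => ?_
    show Φ (g (kc S N) * kc P O1 ^ i) = _
    have hN' := Groth.L29.LocFree.pullback π hN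
    have hp := Groth.L16.Existence.isFinLocFree_of_isInvertible (Groth.L18.Ample.isInvertible_tensorPow D.hO i)
    rw [hg N hN, ← kc_tensorPow D.hO, ← kc_tensor hN' hp]
    exact (hΦ _ (Groth.L29.DC.isFinLocFree_tensor hN' hp)).trans (D.seq_pull A hN i)
  have h' := congrArg Φ h
  rw [map_sum, map_zero, Finset.sum_congr rfl fun i _ => key i (a i)] at h'
  have hs : (∑ i ∈ Finset.range (r + 1),
      (((fun m : ℕ => a i * D.s ((i + m : ℕ) : ℤ)) : ℕ → KR S) : (Filter.atTop : Filter ℕ).Germ (KR S))) =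
      ((∑ i ∈ Finset.range (r + 1), fun m : ℕ => a i * D.s ((i + m : ℕ) : ℤ) : ℕ → KR S)) :=
    (map_sum (Filter.Germ.coeAddHom (Filter.atTop : Filter ℕ) (M := KR S)) _ _).symm
  rw [hs] at h'
  obtain ⟨N, hN⟩ := Filter.eventually_atTop.1 (Filter.Germ.coe_eq.1 h')
  exact ⟨N, fun m hm => by simpa [Finset.sum_apply] using hN m hm⟩

include D in
theorem isUnit_top : IsUnit (kc S (wedgeMod E (r + 1))) := isUnit_kc (isInvertible_wedge_top D.hE)

include A D hg in
/-- The powers `ℓ^i`, `i ≤ r`, are independent over `K(S)`. -/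
theorem indep [CompactSpace S] {a : ℕ → KR S} (h : ∑ i ∈ Finset.range (r + 1), g (a i) * kc P O1 ^ i = 0)
    {i : ℕ} (hi : i ≤ r) : a i = 0 := by
  obtain ⟨N, hN⟩ := D.eventually_eq_zero A g hg h
  let t : ℤ → KR S := fun m => ∑ i ∈ Finset.range (r + 1), a i * D.s ((i : ℤ) + m)
  let c : ℕ → KR S := fun j => (-1 : KR S) ^ j * kc S (wedgeMod E j)
  have trec : ∀ M : ℤ, 1 ≤ M → ∑ j ∈ Finset.range (r + 2), c j * t (M - j) = 0 := fun M hM => by
    simp only [t, Finset.mul_sum]
    rw [Finset.sum_comm]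
    refine Finset.sum_eq_zero fun l hl => ?_
    rw [Finset.sum_congr rfl fun j _ => show c j * (a l * D.s ((l : ℤ) + (M - j))) =
      a l * ((-1 : KR S) ^ j * kc S (wedgeMod E j) * D.s ((l : ℤ) + M - j)) by
        rw [add_sub_assoc]; ring, ← Finset.mul_sum, D.s_rec A (by omega), mul_zero]
  have desc : ∀ k : ℕ, ∀ m : ℤ, -(r : ℤ) ≤ m → (N : ℤ) - k ≤ m → t m = 0 := by
    intro k
    induction k with
    | zero =>
      intro m _ hm
      obtain ⟨n, rfl⟩ : ∃ n : ℕ, m = n := ⟨m.toNat, by omega⟩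
      exact hN n (by omega)
    | succ k ih =>
      intro m hm hm'
      by_cases hk : (N : ℤ) - k ≤ m
      · exact ih m hm hk
      have h1 := trec (m + (r + 1 : ℕ)) (by omega)
      rw [Finset.sum_range_succ, Finset.sum_eq_zero fun j hj => by
          have := Finset.mem_range.1 hj
          rw [ih _ (by omega) (by omega), mul_zero],
        zero_add, add_sub_cancel_right] at h1
      exact (((isUnit_one.neg).pow (r + 1)).mul D.isUnit_top).mul_right_eq_zero.1 h1
  suffices H : ∀ k i : ℕ, i + k = r → a i = 0 from H (r - i) i (by omega)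
  intro k
  induction k using Nat.strong_induction_on with
  | _ k ih =>
    intro i hik
    have h1 := desc (N + r) (-(i : ℤ)) (by omega) (by omega)
    rw [show t (-(i : ℤ)) = ∑ l ∈ Finset.range (r + 1), a l * D.s ((l : ℤ) + -(i : ℤ)) from rfl,
      Finset.sum_eq_single i (fun l hl hne => ?_) (fun hni => absurd (Finset.mem_range.2 (by omega)) hni),
      add_neg_cancel, D.s_zero A, mul_one] at h1
    · exact h1
    · have := Finset.mem_range.1 hl
      rcases Nat.lt_or_gt_of_ne hne with hlt | hgt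
      · rw [D.s_neg A (by omega) (by omega), mul_zero]
      · rw [ih (r - l) (by omega) l (by omega), zero_mul]

include D in
theorem kc_mul : kc P L * kc P O1 = 1 := kc_inverse D.hL D.hO D.hLO

include D hg in
/-- `g(∧^{i+1}E) = ∧^{i+1}W + ∧^i W · ℓ`. -/
theorem pull_wedge (i : ℕ) : g (kc S (wedgeMod E (i + 1))) =
    kc P (wedgeMod (tautSC q).X₁ (i + 1)) + kc P (wedgeMod (tautSC q).X₁ i) * kc P O1 := by
  obtain ⟨T, hT, ⟨e₁⟩, ⟨e₂⟩, ⟨e₃⟩⟩ := exists_wedge D.hq D.hO1 D.hE i
  have hO := Groth.L16.Existence.isFinLocFree_of_isInvertible D.hO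
  have h1 : FlatMod.IsFinLocFree T.X₁ := Groth.L29.LocFree.of_iso e₁.symm (D.vb_wedgeW _)
  have h2 : FlatMod.IsFinLocFree T.X₂ :=
    Groth.L29.LocFree.of_iso e₂.symm (Groth.L29.LocFree.pullback π (D.vb_wedgeE _))
  have h3 : FlatMod.IsFinLocFree T.X₃ :=
    Groth.L29.LocFree.of_iso e₃.symm (Groth.L29.DC.isFinLocFree_tensor (D.vb_wedgeW _) hO)
  rw [hg _ (D.vb_wedgeE _), ← kc_iso e₂ h2, kc_shortExact hT h1 h2 h3, kc_iso e₁ h1, kc_iso e₃ h3,
    kc_tensor (D.vb_wedgeW _) hO]

include D hg in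
/-- `Σ (-1)^i π^*(∧^i E) ℓ^{r+1-i} = 0`. -/
theorem relation :
    ∑ i ∈ Finset.range (r + 2), (-1 : KR P) ^ i * g (kc S (wedgeMod E i)) * kc P O1 ^ (r + 1 - i) = 0 := by
  have key : ∀ k : ℕ, ∑ i ∈ Finset.range (k + 1), (-1 : KR P) ^ i * g (kc S (wedgeMod E i)) * kc P O1 ^ (k - i) =
      (-1) ^ k * kc P (wedgeMod (tautSC q).X₁ k) := by
    intro k
    induction k with
    | zero =>
      obtain ⟨e⟩ := Groth.L12.ExtSh.nonempty_iso_of_isExtPow
        (Groth.L12.ExtSh.isExtPow_wedgeMod (tautSC q).X₁ 0) (Groth.L12.Kvb.isExtPow_zero (tautSC q).X₁)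
      obtain ⟨e'⟩ := Groth.L12.ExtSh.nonempty_iso_of_isExtPow
        (Groth.L12.ExtSh.isExtPow_wedgeMod E 0) (Groth.L12.Kvb.isExtPow_zero E)
      rw [Finset.sum_range_one, kc_iso e' (D.vb_wedgeE 0), kc_iso e (D.vb_wedgeW 0), kc_one, kc_one, map_one]
      simp
    | succ k ih =>
      rw [Finset.sum_range_succ, Nat.sub_self, pow_zero, mul_one, D.pull_wedge g hg k,
        Finset.sum_congr rfl fun i (hi : i ∈ Finset.range (k + 1)) => show
          (-1 : KR P) ^ i * g (kc S (wedgeMod E i)) * kc P O1 ^ (k + 1 - i) =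
            kc P O1 * ((-1 : KR P) ^ i * g (kc S (wedgeMod E i)) * kc P O1 ^ (k - i)) by
          have := Finset.mem_range.1 hi
          rw [show k + 1 - i = (k - i) + 1 by omega, pow_succ]
          ring,
        ← Finset.mul_sum, ih, pow_succ]
      ring
  rw [key, kc_zero (isZero_wedge_of_rank (rank_taut D.hq D.hO1 D.hE) (Nat.lt_succ_self r)), mul_zero]

include D hg in
/-- The same relation in the powers of the inverse. -/
theorem relation_inv :
    ∑ i ∈ Finset.range (r + 2), (-1 : KR P) ^ i * g (kc S (wedgeMod E i)) * kc P L ^ i = 0 := by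
  have h := congrArg (fun z => z * kc P L ^ (r + 1)) (D.relation g hg)
  simp only [zero_mul, Finset.sum_mul] at h
  refine (Finset.sum_congr rfl fun i hi => ?_).trans h
  have := Finset.mem_range.1 hi
  rw [show kc P L ^ (r + 1) = kc P L ^ (r + 1 - i) * kc P L ^ i by rw [← pow_add]; congr 1; omega,
    mul_assoc _ (kc P O1 ^ (r + 1 - i)), ← mul_assoc (kc P O1 ^ (r + 1 - i)), ← mul_pow,
    mul_comm (kc P O1) (kc P L), D.kc_mul, one_pow, one_mul]

/-- `(a_i) ↦ Σ g(a_i) [O(-1)]^i`. -/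
def combInv (_D : Setup π q L r) : (Fin (r + 1) → KR S) →+ KR P :=
  ∑ i : Fin (r + 1), (AddMonoidHom.mulRight (kc P L ^ (i : ℕ))).comp
    (g.toAddMonoidHom.comp (Pi.evalAddMonoidHom (fun _ => KR S) i))

theorem combInv_apply (a : Fin (r + 1) → KR S) :
    D.combInv g a = ∑ i : Fin (r + 1), g (a i) * kc P L ^ (i : ℕ) := by
  simp [combInv]

include D hg in
theorem mem_range_combInv : ∀ (i : ℕ) (y : KR S), g y * kc P L ^ i ∈ (D.combInv g).range := by
  classical
  have hsingle : ∀ (i : ℕ) (y : KR S), i ≤ r → g y * kc P L ^ i ∈ (D.combInv g).range := fun i y hi => by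
    refine ⟨Pi.single (⟨i, by omega⟩ : Fin (r + 1)) y, ?_⟩
    rw [combInv_apply, Finset.sum_eq_single (⟨i, by omega⟩ : Fin (r + 1))]
    · rw [Pi.single_eq_same]
    · intro j _ hj
      rw [Pi.single_eq_of_ne hj, map_zero, zero_mul]
    · exact fun h => absurd (Finset.mem_univ _) h
  intro i
  induction i using Nat.strong_induction_on with
  | _ i ih =>
    intro y
    by_cases hi : i ≤ r
    · exact hsingle i y hi
    obtain ⟨k, rfl⟩ : ∃ k, i = r + 1 + k := ⟨i - (r + 1), by omega⟩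
    obtain ⟨u, hu⟩ := ((isUnit_one.neg).pow (r + 1)).mul D.isUnit_top
    have hrel := congrArg (fun z => g (y * ↑u⁻¹) * kc P L ^ k * z) (D.relation_inv g hg)
    rw [Finset.sum_range_succ, mul_zero] at hrel
    have hlead : (-1 : KR P) ^ (r + 1) * g (kc S (wedgeMod E (r + 1))) = g (u : KR S) := by
      rw [hu, map_mul, map_pow, map_neg, map_one]
    rw [hlead, mul_add] at hrel
    have hval : g (y * ↑u⁻¹) * kc P L ^ k * (g (u : KR S) * kc P L ^ (r + 1)) = g y * kc P L ^ (r + 1 + k) := by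
      rw [map_mul, pow_add]
      have e1 : g ↑u⁻¹ * g (u : KR S) = 1 := by rw [← map_mul, Units.inv_mul, map_one]
      linear_combination (g y * kc P L ^ (r + 1) * kc P L ^ k) * e1
    rw [hval] at hrel
    rw [eq_neg_of_add_eq_zero_right hrel, Finset.mul_sum]
    refine neg_mem (sum_mem fun j hj => ?_)
    have := Finset.mem_range.1 hj
    have : g (y * ↑u⁻¹) * kc P L ^ k * ((-1 : KR P) ^ j * g (kc S (wedgeMod E j)) * kc P L ^ j) =
        g (y * ↑u⁻¹ * ((-1) ^ j * kc S (wedgeMod E j))) * kc P L ^ (j + k) := by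
      rw [map_mul g (y * ↑u⁻¹), map_mul g ((-1 : KR S) ^ j), map_pow, map_neg, map_one, pow_add]
      ring
    rw [this]
    exact ih _ (by omega) _

include A D hg in
theorem mem_of_van : ∀ (k j : ℕ), j + k = r + 1 → ∀ {F : P.Modules}, Van A j F →
    kc P F ∈ AddSubgroup.closure {z | ∃ (y : KR S) (i : ℕ), z = g y * kc P L ^ i}
  | 0, j, hj, F, h => by
    obtain rfl : j = r + 1 := by omega
    rw [kc_zero (isZero_of_van A D.hL D.hLO h)]
    exact zero_mem _
  | k + 1, j, hj, F, h => by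
    have hT := vb_push A h.1 h.2.1
    have hX := vb_X₁ A h.1 h.2.1
    have hO := Groth.L16.Existence.isFinLocFree_of_isInvertible D.hO
    have e := kc_shortExact (shortExact_cSC A h.1 h.2.1) hX (Groth.L29.LocFree.pullback _ hT) h.1
    have hm : kc P (cSC π F).X₁ = kc P L * kc P (CohB1.tensorMod (cSC π F).X₁ O1) := by
      rw [kc_tensor hX hO, mul_left_comm, D.kc_mul, mul_one]
    rw [show kc P (cSC π F).X₂ = g (kc S ((Scheme.Modules.pushforward π).obj F)) from (hg _ hT).symm, hm] at e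
    rw [show kc P F = g (kc S ((Scheme.Modules.pushforward π).obj F)) -
      kc P L * kc P (CohB1.tensorMod (cSC π F).X₁ O1) from eq_sub_of_add_eq' e.symm]
    refine sub_mem (AddSubgroup.subset_closure ⟨_, 0, by rw [pow_zero, mul_one]⟩) ?_
    have ih := mem_of_van k (j + 1) (by omega) (van_next A D.hO D.hL D.hLO (by omega) h)
    refine (AddSubgroup.closure_le (K := (AddSubgroup.closure _).comap (AddMonoidHom.mulLeft (kc P L)))).2 ?_ ih
    rintro z ⟨y, i, rfl⟩
    exact AddSubgroup.subset_closure ⟨y, i + 1, show kc P L * (g y * kc P L ^ i) = _ by ring⟩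

include A D hg in
theorem surjective_combInv [CompactSpace S] : Function.Surjective (D.combInv g) := by
  set M := (D.combInv g).range
  have hcl : AddSubgroup.closure {z | ∃ (y : KR S) (i : ℕ), z = g y * kc P L ^ i} ≤ M :=
    (AddSubgroup.closure_le _).2 (by rintro _ ⟨y, i, rfl⟩; exact D.mem_range_combInv g hg i y)
  have key : ∀ F : P.Modules, FlatMod.IsFinLocFree F → kc P F ∈ M := fun F hF => by
    obtain ⟨m, hm⟩ := exists_reg A D.hO hF
    have hp := Groth.L16.Existence.isFinLocFree_of_isInvertible (Groth.L18.Ample.isInvertible_tensorPow D.hO m)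
    have h1 := D.mem_of_van A g hg (r + 1) 0 (zero_add _)
      (F := CohB1.tensorMod F (CohB1.tensorPow O1 m))
      ⟨Groth.L29.DC.isFinLocFree_tensor hF hp, hm, fun q a h1 h2 => absurd h2 (by omega)⟩
    rw [kc_tensor hF hp, kc_tensorPow D.hO] at h1
    have h2 : AddSubgroup.closure {z | ∃ (y : KR S) (i : ℕ), z = g y * kc P L ^ i} ≤
        M.comap (AddMonoidHom.mulLeft (kc P L ^ m)) := (AddSubgroup.closure_le _).2 (by
      rintro z ⟨y, i, rfl⟩
      exact hcl (AddSubgroup.subset_closure ⟨y, m + i, by simp only [AddMonoidHom.coe_mulLeft, pow_add]; ring⟩))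
    have h3 := h2 h1
    rwa [AddSubgroup.mem_comap, AddMonoidHom.coe_mulLeft, mul_left_comm, ← mul_pow, D.kc_mul, one_pow,
      mul_one] at h3
  have h : (QuotientAddGroup.mk' M) = 0 := KR_hom_ext fun F hF => (QuotientAddGroup.eq_zero_iff _).2 (key F hF)
  intro x
  exact (QuotientAddGroup.eq_zero_iff x).1 (DFunLike.congr_fun h x)

include A D hg in
theorem bijective_combInv [CompactSpace S] : Function.Bijective (D.combInv g) := by
  refine ⟨(injective_iff_map_eq_zero _).2 fun a ha => funext fun i => ?_, D.surjective_combInv A g hg⟩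
  rw [combInv_apply] at ha
  let b : ℕ → KR S := fun j => if h : j < r + 1 then a (Fin.rev ⟨j, h⟩) else 0
  have hb : ∀ j : Fin (r + 1), b j = a (Fin.rev j) := fun j => dif_pos j.isLt
  have h0 : ∑ j ∈ Finset.range (r + 1), g (b j) * kc P O1 ^ j = 0 := by
    rw [Finset.sum_range, ← Equiv.sum_comp Fin.revPerm]
    have h1 := congrArg (fun z => kc P O1 ^ r * z) ha
    simp only [Finset.mul_sum, mul_zero] at h1
    refine (Finset.sum_congr rfl fun j _ => ?_).trans h1
    have hj := j.isLt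
    rw [Fin.revPerm_apply, hb, Fin.rev_rev, Fin.val_rev,
      show kc P O1 ^ r = kc P O1 ^ (r - (j : ℕ)) * kc P O1 ^ (j : ℕ) by rw [← pow_add]; congr 1; omega,
      show r + 1 - ((j : ℕ) + 1) = r - (j : ℕ) by omega, mul_left_comm, mul_assoc (kc P O1 ^ (r - (j : ℕ))),
      ← mul_pow, mul_comm (kc P O1) (kc P L), D.kc_mul, one_pow, mul_one]
  have h2 := D.indep A g hg h0 (i := ((Fin.rev i : Fin (r + 1)) : ℕ)) (by have := (Fin.rev i).isLt; omega)
  rw [hb, Fin.rev_rev] at h2
  exact h2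

end Setup

end Groth.L12.KBunQ
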