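import Groth.Agent.L22.Reg.CounitT
import Groth.Agent.L22.Reg.PnGen
import Groth.Agent.L18.AmpleGG

/-!
# Regular quasi-coherent modules on `P^n` over any ring are detected by their global sections
-/

set_option autoImplicit false
set_option maxHeartbeats 400000
set_option linter.style.haveILetI false
set_option linter.unusedSectionVars false
set_option backward.isDefEq.respectTransparency false
set_option backward.isDefEq.respectTransparency.types false

universe u

open CategoryTheory CategoryTheory.Limits AlgebraicGeometry TopologicalSpace Opposite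

noncomputable section

namespace Groth.L12.KBunQ

open Groth.L18.Ample (KillsGlobal hom_app_rs it tw twIso)
open Groth.L18.Frame (rs rs_rs rs_self IsFrame)
open Groth.L18.GenLoc (secOf tens)
open Groth.L00.Tensor (tensorIso tensorMap)
open Groth.L22.Reg (twMap twMap_it tw' O' Regular bijective_tens_frame)

/-- A morphism from a quasi-coherent module all of whose twists kill global sections is zero. -/
theorem eq_zero_of_global_twists {X : Scheme.{u}} [CompactSpace X] [QuasiSeparatedSpace X] {F G : X.Modules}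
    [Coh.IsQCoh F] (g : F ⟶ G) {L : X.Modules} (hL : PicF.IsInvertible L)
    (hgen : ∀ x, ∃ s : Coh.structureModule X ⟶ L, x ∈ CohB1.genLocus L s ∧ IsAffineOpen (CohB1.genLocus L s))
    (h : ∀ k, KillsGlobal (twMap g L k)) : g = 0 := by
  refine Groth.L18.Ample.eq_zero_of_local g fun V c z hz => ?_
  obtain ⟨s, hs, haff⟩ := hgen z
  let D := CohB1.genLocus L s
  refine ⟨V ⊓ D, inf_le_left, ⟨hz, hs⟩, ?_⟩
  have hD : ∀ c' : Γ(F, D), g.app D c' = 0 := by
    intro c'
    obtain ⟨k, t, ht⟩ := Groth.L18.Ample.exists_extend_qcoh hL s c'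
    have h1 := congrArg ((twMap g L k).app D) ht
    rw [hom_app_rs, h k t, twMap_it] at h1
    have hfr : IsFrame L D (rs L le_top (secOf s)) := Groth.L18.GenLoc.isFrame_genLocus s
    have hz0 : ∀ (k : ℕ) (m : Γ(G, D)), it (secOf s) D m k = 0 → m = 0 := by
      intro k
      induction k with
      | zero => exact fun m hm => hm
      | succ k ih =>
        intro m hm
        refine ih m (bijective_tens_frame hfr hL (hm.trans ?_))
        exact (Groth.L18.Ample.tens_zero_left _).symm
    exact hz0 k _ (h1.symm.trans (map_zero _))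
  haveI : IsAffine D.toScheme := haff
  haveI : Coh.IsQCoh (F.restrict D.ι) := Scheme.Modules.isQuasicoherent_restrictFunctor _ F
  have hA := Groth.L18.Ample.eq_zero_of_killsGlobal
    (Groth.L18.Ample.isGloballyGenerated_of_isQuasiAffine (F.restrict D.ι))
    ((Scheme.Modules.restrictFunctor D.ι).map g) fun t => by
      have h2 := hD (rs F D.ι_image_top.ge t)
      rw [hom_app_rs] at h2
      exact Groth.L22.Reg.eq_zero_of_rs_eq_zero' G D.ι_image_top.ge _ D.ι_image_top.le h2
  have hle : V ⊓ D ≤ D.ι ''ᵁ (D.ι ⁻¹ᵁ V) := fun y hy => ⟨⟨y, hy.2⟩, hy.1, rfl⟩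
  have hle' : D.ι ''ᵁ (D.ι ⁻¹ᵁ V) ≤ V := by
    rintro _ ⟨w, hw, rfl⟩
    exact hw
  have h3 : g.app _ (rs F hle' c) = 0 := congr(($hA).app (D.ι ⁻¹ᵁ V) _)
  have h4 := congrArg (rs G hle) h3
  rw [← hom_app_rs, rs_rs] at h4
  exact h4.trans (map_zero _)

variable {n : ℕ} {R : Type u} [CommRing R]

theorem nonempty_tw_iso (F : (CohB1.ProjSpace n R).Modules) (k : ℕ) :
    Nonempty (tw' F (k : ℤ) ≅ tw F (O' n R 1) k) := by
  obtain ⟨e⟩ := Groth.L16.ProjTwist.nonempty_twist_iso_tensorPow (CohB1.polyGrading n R)
    (Groth.L22.Reg.hcov n R) k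
  exact ⟨tensorIso (Iso.refl F) e ≪≫ (twIso F _ k).symm⟩

/-- A morphism from a regular module killing the global sections is zero. -/
theorem eq_zero_of_regular {F G : (CohB1.ProjSpace n R).Modules} [Coh.IsQCoh F] (hF : Regular F 0) (g : F ⟶ G)
    (hg : KillsGlobal g) : g = 0 := by
  haveI : CompactSpace (CohB1.ProjSpace n R) :=
    QuasiCompact.compactSpace_of_compactSpace (CohB1.ProjSpace.toSpec n R)
  haveI : (CohB1.ProjSpace n R).IsSeparated :=
    ⟨by rw [← terminal.comp_from (CohB1.ProjSpace.toSpec n R)]; infer_instance⟩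
  refine eq_zero_of_global_twists g (Groth.L16.ProjTwist.isInvertible_twistProjSpace n R 1) (fun x => ?_) fun k => ?_
  · obtain ⟨i, hi⟩ := Groth.L16.ProjSpace.exists_mem_basicOpen_X n R x
    let f : CohB1.polyGrading n R 1 := ⟨MvPolynomial.X i, Groth.L16.ProjSpace.X_mem n R i⟩
    have hl := Groth.L16.ProjTwist.genLocus_sect (CohB1.polyGrading n R) (Groth.L22.Reg.hcov n R) f
    exact ⟨Groth.L16.ProjTwist.sect (CohB1.polyGrading n R) f, hl.ge hi,
      hl ▸ Proj.isAffineOpen_basicOpen _ _ f.2 one_pos⟩
  · induction k with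
    | zero => exact hg
    | succ k ih =>
      intro y
      obtain ⟨p, rfl⟩ := Groth.L22.Reg.surjective_congr (nonempty_tw_iso F k).some
        (hF.surjective_one (show (0 : ℤ) ≤ k by omega)) y
      induction p using TensorProduct.induction_on with
      | zero => exact (congrArg _ (map_zero _)).trans (map_zero _)
      | add a b ha hb =>
        refine (congrArg _ (map_add _ a b)).trans ((map_add _ _ _).trans ?_)
        exact (congrArg₂ (· + ·) ha hb).trans (add_zero 0)
      | tmul m l =>
        show (tensorMap (twMap g (O' n R 1) k) (𝟙 (O' n R 1))).app ⊤ (tens _ _ ⊤ m l) = 0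
        rw [Groth.L18.Ample.tensorMap_tens, ih m]
        exact Groth.L18.Ample.tens_zero_left _

end Groth.L12.KBunQ
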