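import Groth.Agent.L12.KBunQ.FibreVanish
import Groth.Agent.L12.KBun.Dim
import Groth.Agent.L12.KBun.Gen
import Groth.Agent.L17.Strat.FlatCriterion
import Groth.Agent.L18.LocFreeFP
import Groth.Agent.L12.KRR.Gen

/-!
# Large twists on a projective bundle over any quasi-compact base
-/

set_option autoImplicit false
set_option maxHeartbeats 400000
set_option linter.style.haveILetI false
set_option linter.unusedSectionVars false
set_option backward.isDefEq.respectTransparency false
set_option backward.isDefEq.respectTransparency.types false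

universe u

open CategoryTheory CategoryTheory.Limits AlgebraicGeometry TopologicalSpace Opposite

attribute [local instance] HasDerivedCategory.standard

noncomputable section

namespace Groth.L12.KBunQ

open Groth.L22.Reg (VPush)

section General

variable {X Y : Scheme.{u}} (f : X ⟶ Y) [IsProper f] [LocallyOfFinitePresentation f]

/-- Fibrewise vanishing gives vanishing of the higher direct image. -/
theorem vpush_of_fibre {F : X.Modules} [Coh.IsQCoh F] (hfp : CohB1.IsFP F) (hfl : FlatMod.IsFlatOver f F) (q : ℕ)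
    (h : ∀ y, Subsingleton (CohIII.fiberH f F y q)) : VPush f q F := by
  haveI := Groth.L17.PushQCoh.hasInjectiveResolutions X
  obtain ⟨e⟩ := Groth.L17.nonempty_toAb_Rpush_iso f F q
  refine IsZero.of_iso ((Groth.L17.toAbShF Y).map_isZero ?_) e.symm
  rw [Groth.L21.Mod.isZero_iff_support_eq_empty]
  refine Set.eq_empty_of_forall_notMem fun y hy => ?_
  obtain ⟨U, hyU, hz⟩ := Groth.L17.BC.exists_isZero_of_vanishing f F hfp hfl y q (h y)
  rw [Groth.L21.Mod.isZero_iff_support_eq_empty, Groth.L21.Mod.support_restrict] at hz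
  exact Set.notMem_empty _ (hz ▸ (show (⟨y, hyU⟩ : U.toScheme) ∈ U.ι ⁻¹' CohB1.support _ from hy))

/-- Fibrewise vanishing in degree one gives a locally free direct image. -/
theorem isFinLocFree_push_of_fibre {F : X.Modules} [Coh.IsQCoh F] (hfp : CohB1.IsFP F)
    (hfl : FlatMod.IsFlatOver f F) (h : ∀ y, Subsingleton (CohIII.fiberH f F y 1)) :
    FlatMod.IsFinLocFree ((Scheme.Modules.pushforward f).obj F) := fun y => by
  haveI := Groth.L17.PushQCoh.hasInjectiveResolutions X
  obtain ⟨U, hyU, ⟨e⟩⟩ := Groth.L17.BC.exists_free_of_vanishing f F hfp hfl y 0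
    (fun q hq => absurd hq (Nat.succ_ne_zero q)) (h y)
  obtain ⟨e₀⟩ := Groth.L17.BC.Classes.nonempty_Rpush_zero_iso f F
  exact ⟨U, _, hyU, ⟨(Scheme.Modules.restrictFunctor U.ι).mapIso e₀.symm ≪≫ e⟩⟩

/-- A flat finitely presented module without higher direct images has a locally free direct image. -/
theorem isFinLocFree_push_of_vpush {F : X.Modules} [Coh.IsQCoh F] (hfp : CohB1.IsFP F)
    (hfl : FlatMod.IsFlatOver f F) (h : ∀ q, 1 ≤ q → VPush f q F) :
    FlatMod.IsFinLocFree ((Scheme.Modules.pushforward f).obj F) := by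
  haveI := Groth.L17.PushQCoh.hasInjectiveResolutions X
  refine isFinLocFree_push_of_fibre f hfp hfl fun y =>
    subsingleton_fiberH_of_vanish f F hfp hfl 1 (fun q hq => ?_) y 1 le_rfl
  obtain ⟨e⟩ := Groth.L17.nonempty_toAb_Rpush_iso f F q
  exact Groth.L17.PushQCoh.isZero_of_toAb ((h q hq).of_iso e)

theorem isFlatOver_bundle [Flat f] {F : X.Modules} (hF : FlatMod.IsFinLocFree F) : FlatMod.IsFlatOver f F :=
  Groth.L29.DC.RelTor.isFlatOver_of_isFlat f (Groth.L29.DC.isFlat_of_isFinLocFree hF)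

/-- Eventual vanishing and local freeness for the twists by a relatively ample module. -/
theorem exists_eventual_push [CompactSpace Y] {L : X.Modules} (hamp : RelAmple.IsRelAmple f L) {F : X.Modules}
    (hfp : CohB1.IsFP F) (hfl : FlatMod.IsFlatOver f F) :
    ∃ N : ℕ, ∀ n, N ≤ n → (∀ q, 1 ≤ q → VPush f q (CohB1.tensorMod F (CohB1.tensorPow L n))) ∧
      FlatMod.IsFinLocFree ((Scheme.Modules.pushforward f).obj (CohB1.tensorMod F (CohB1.tensorPow L n))) := by
  have hL := Groth.L17.Strat.isInvertible_of_isRelAmple hamp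
  haveI := Groth.L17.Strat.isQCoh_of_isFP F hfp
  obtain ⟨N, hN⟩ := Groth.L17.Strat.exists_fibre_vanishing f L F hamp hfp
  refine ⟨N, fun n hn => ?_⟩
  haveI := Groth.L17.Strat.isQCoh_twist F L hL n
  have hfp' := Groth.L22.Inter.FlatTwist.isFP_tensor hfp (Groth.L18.Ample.isInvertible_tensorPow hL n)
  have hfl' := Groth.L22.Inter.FlatTwist.isFlatOver_tensor f hfl (Groth.L18.Ample.isInvertible_tensorPow hL n)
  exact ⟨fun q hq => vpush_of_fibre f hfp' hfl' q fun y => hN n hn y q hq,
    isFinLocFree_push_of_fibre f hfp' hfl' fun y => hN n hn y 1 Nat.one_pos⟩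

end General

open Groth.L12.KBun (Atlas CV cv_zero_iff cv_tensorPow)

variable {S P : Scheme.{u}} {π : P ⟶ S} {O1 : P.Modules} {r : ℕ} (A : Atlas π O1 r)

include A in
theorem lfp_atlas : LocallyOfFinitePresentation π := by
  refine IsZariskiLocalAtTarget.of_iSup_eq_top (P := @LocallyOfFinitePresentation) A.V
    (top_le_iff.1 fun y _ => Opens.mem_iSup.2 ⟨y, A.mem y⟩) fun y => ?_
  let ε : CohB1.ProjSpace r Γ(S, A.V y) ≅ (π ⁻¹ᵁ A.V y).toScheme :=
    IsOpenImmersion.isoOfRangeEq (A.h y) (π ⁻¹ᵁ A.V y).ι (by rw [Scheme.Opens.range_ι, ← A.range y]; rfl)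
  have e : π ∣_ A.V y = ε.inv ≫ CohB1.ProjSpace.toSpec r Γ(S, A.V y) ≫ (A.affine y).isoSpec.inv := by
    rw [← cancel_mono (A.V y).ι, ← cancel_epi ε.hom]
    simp only [Category.assoc, Iso.hom_inv_id_assoc, morphismRestrict_ι]
    rw [IsOpenImmersion.isoOfRangeEq_hom_fac_assoc]
    exact A.comp y
  rw [e]
  infer_instance

include A in
theorem isFinLocFree_push_bundle {M : P.Modules} (hM : FlatMod.IsFinLocFree M) (h : ∀ q, 1 ≤ q → VPush π q M) :
    FlatMod.IsFinLocFree ((Scheme.Modules.pushforward π).obj M) := by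
  haveI := A.isProper
  haveI := A.flat
  haveI := lfp_atlas A
  haveI : Coh.IsQCoh M := Groth.L29.DC.PCQCoh.isQCoh_of_isFinLocFree hM
  exact isFinLocFree_push_of_vpush π (Groth.L18.LFP.isFP_of_isFinLocFree M hM) (isFlatOver_bundle π hM) h

/-- Higher cohomology of large twists of a bundle vanishes in all charts. -/
theorem exists_eventual [CompactSpace S] (hinv : PicF.IsInvertible O1) {M : P.Modules}
    (hM : FlatMod.IsFinLocFree M) : ∃ D : ℕ, ∀ d : ℕ, D ≤ d → ∀ q : ℕ, 1 ≤ q → CV A q (d : ℤ) M := by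
  haveI := A.isProper
  haveI := A.flat
  haveI := lfp_atlas A
  obtain ⟨N, hN⟩ := exists_eventual_push π (A.isRelAmple hinv) (Groth.L18.LFP.isFP_of_isFinLocFree M hM)
    (isFlatOver_bundle π hM)
  refine ⟨N, fun d hd q hq => (cv_tensorPow A (k := d) (add_zero _)).1 ?_⟩
  haveI : Coh.IsQCoh M := Groth.L29.DC.PCQCoh.isQCoh_of_isFinLocFree hM
  haveI : Coh.IsQCoh (CohB1.tensorPow O1 d) := Groth.L21.Extend.isQCoh_of_isInvertible
    (Groth.L18.Ample.isInvertible_tensorPow hinv d)
  haveI := Groth.L00.Tensor.isQCoh_tensorMod M (CohB1.tensorPow O1 d)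
  exact (cv_zero_iff A q).1 ((hN d hd).1 q hq)

end Groth.L12.KBunQ
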