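import Groth.Agent.L17.BC.GenApply
import Groth.Agent.L17.BC.AmpleFlat

/-!
# Vanishing of higher direct images and of fibre cohomology, over any base
-/

set_option autoImplicit false
set_option maxHeartbeats 400000
set_option linter.style.haveILetI false
set_option linter.unusedSectionVars false
set_option backward.isDefEq.respectTransparency false

universe u

open CategoryTheory CategoryTheory.Limits AlgebraicGeometry TopologicalSpace Opposite
open scoped TensorProduct

noncomputable section

namespace Groth.L12.KBunQ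

open Groth.L17.BC Groth.L01.FlatCx

/-- Over any ring, acyclicity in the degrees `≥ a` of a bounded above complex of flat modules makes the cokernels there flat. -/
theorem flat_coker_of_subsingleton_above {A : Type u} [CommRing A] (L : CochainComplex (ModuleCat.{u} A) ℤ)
    (hL : ∀ i, Module.Flat A (L.X i)) (b a : ℤ) (hb : ∀ i, b < i → IsZero (L.X i))
    (hH : ∀ i, a ≤ i → Subsingleton (L.homology i : Type u)) (j : ℤ) (hj : a ≤ j) :
    Module.Flat A (Coker L (j - 1) j) := by
  haveI := hL
  suffices ∀ (k : ℕ) (i : ℤ), a ≤ i → b < i + k → Module.Flat A (Coker L (i - 1) i) from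
    this (b + 1 - j).toNat j hj (by omega)
  intro k
  induction k with
  | zero =>
    intro i _ hi
    haveI := ModuleCat.subsingleton_of_isZero (hb i (by omega))
    infer_instance
  | succ k ih =>
    intro i hai hi
    have hnext : Module.Flat A (Coker L i (i + 1)) := by
      have h := ih (i + 1) (by omega) (by omega)
      rwa [show i + 1 - 1 = i by omega] at h
    haveI : Module.Flat A (LinearMap.range (dd L i (i + 1))) :=
      flat_left (Submodule.injective_subtype _) (Submodule.mkQ_surjective _)
        (LinearMap.exact_iff.mpr ((Submodule.ker_mkQ _).trans (Submodule.range_subtype _).symm))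
    rw [flat_coker_iff L (Crit.prev_eq' i) (Crit.next_eq i)]
    haveI := hH i hai
    haveI : Subsingleton ((CohIII.TFun L i).obj (ModuleCat.of A A) : Type u) := (unitEquiv L i).toEquiv.subsingleton
    infer_instance

/-- Acyclicity in the degrees `≥ a` survives base change. -/
theorem subsingleton_homology_bc {A : Type u} [CommRing A] (L : CochainComplex (ModuleCat.{u} A) ℤ)
    (hL : ∀ i, Module.Flat A (L.X i)) (b a : ℤ) (hb : ∀ i, b < i → IsZero (L.X i))
    (hH : ∀ i, a ≤ i → Subsingleton (L.homology i : Type u)) (B : Type u) [CommRing B] [Algebra A B]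
    (j : ℤ) (hj : a ≤ j) : Subsingleton ((bc B L).homology j : Type u) := by
  have h1 := flat_coker_of_subsingleton_above L hL b a hb hH (j + 1) (by omega)
  rw [show j + 1 - 1 = j by omega] at h1
  haveI := (preservesEpi_iff L (Crit.next_eq j) (Crit.prev_eq j) hL).2 h1
  obtain ⟨e⟩ := nonempty_homology_bc B L j (bijective_of_preservesEpi L j hL _)
  haveI := hH j hj
  haveI : Subsingleton ((CohIII.TFun L j).obj (ModuleCat.of A A) : Type u) := (unitEquiv L j).toEquiv.subsingleton
  haveI : Subsingleton (B ⊗[A] ((CohIII.TFun L j).obj (ModuleCat.of A A) : Type u)) :=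
    subsingleton_of_forall_eq 0 fun t => by
      induction t using TensorProduct.induction_on with
      | zero => rfl
      | add x y hx hy => rw [hx, hy, add_zero]
      | tmul x y => rw [Subsingleton.elim y 0, TensorProduct.tmul_zero]
  exact e.toEquiv.subsingleton

variable {X Y : Scheme.{u}} (f : X ⟶ Y) [IsProper f] [LocallyOfFinitePresentation f]
  (F : X.Modules) [Coh.IsQCoh F]

/-- Vanishing of the higher direct images in the degrees `≥ a` gives the vanishing on the fibres. -/
theorem subsingleton_fiberH_of_vanish [HasInjectiveResolutions X.Modules] (hfp : CohB1.IsFP F)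
    (hfl : FlatMod.IsFlatOver f F) (a : ℕ) (hR : ∀ q, a ≤ q → IsZero ((Coh.Rpush f q).obj F)) (y : Y) (p : ℕ)
    (hp : a ≤ p) : Subsingleton (CohIII.fiberH f F y p) := by
  obtain ⟨_, ⟨V, hV, rfl⟩, hyV, -⟩ :=
    Y.isBasis_affineOpens.exists_subset_of_mem_open (Set.mem_univ y) isOpen_univ
  obtain ⟨l⟩ := nonempty_glocal f hV F hfp hfl
  obtain ⟨e⟩ := l.exists_fibre_equiv hyV p
  refine @Equiv.subsingleton _ _ e.symm.toEquiv ?_
  letI : Algebra l.A₀ Γ(Y, V) := l.φ.toAlgebra
  letI : Algebra Γ(Y, V) (Y.residueField y) := (Y.evaluation V y hyV).hom.toAlgebra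
  letI : Algebra l.A₀ (Y.residueField y) := ((Y.evaluation V y hyV).hom.comp l.φ).toAlgebra
  haveI : IsScalarTower l.A₀ Γ(Y, V) (Y.residueField y) := IsScalarTower.of_algebraMap_eq fun _ => rfl
  let L' := bc Γ(Y, V) l.m.L
  have hfl' : ∀ i, Module.Flat Γ(Y, V) (L'.X i) := flat_bc Γ(Y, V) l.m.L (fun i => (l.finiteFlat i).2)
  have hb : ∀ i, l.m.top < i → IsZero (L'.X i) := fun i hi =>
    (ModuleCat.extendScalars (algebraMap l.A₀ Γ(Y, V))).map_isZero (l.m.isZero_above i hi)
  have hH : ∀ i : ℤ, (a : ℤ) ≤ i → Subsingleton (L'.homology i : Type u) := fun i hi => by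
    obtain ⟨k, rfl⟩ : ∃ k : ℕ, i = (k : ℤ) := ⟨i.toNat, by omega⟩
    obtain ⟨e'⟩ := l.nonempty_rpush k
    exact ModuleCat.subsingleton_of_isZero (Groth.L29.DC.TildeAlg.isZero_of_isZero_tilde
      (IsZero.of_iso ((Scheme.Modules.restrictFunctor hV.fromSpec).map_isZero (hR k (by omega))) e'.symm))
  have h := subsingleton_homology_bc L' hfl' l.m.top a hb hH (Y.residueField y) (p : ℤ) (by exact_mod_cast hp)
  obtain ⟨e''⟩ := nonempty_bc_comp l.m.L Γ(Y, V) (Y.residueField y) (p : ℤ)
  exact @Equiv.subsingleton _ _ e''.symm.toEquiv h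

end Groth.L12.KBunQ
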