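import Groth.Agent.L12.KBunQ.Eventual
import Groth.Agent.L12.KBunQ.CounitChart
import Groth.Agent.L12.KBun.Push
import Groth.Agent.L12.ZarPair.Sheaf

/-!
# Regular bundles on a projective bundle over any base and their resolutions
-/

set_option autoImplicit false
set_option maxHeartbeats 400000
set_option linter.style.haveILetI false
set_option linter.unusedSectionVars false
set_option backward.isDefEq.respectTransparency false
set_option backward.isDefEq.respectTransparency.types false

universe u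

open CategoryTheory CategoryTheory.Limits AlgebraicGeometry TopologicalSpace Opposite

attribute [local instance] HasDerivedCategory.standard

noncomputable section

namespace Groth.L12.KBunQ

open Groth.L22.Reg (VPush tw' Regular O' vpush_left)
open Groth.L00.Tensor (tensorIso tensorRightF tensorUnitRight tensorUnitLeft tensorAssoc tensorComm)
open Groth.L17 (toAbShF)
open Groth.L12.KBun (Atlas CV Reg cv_zero_iff cv_tensorPow cv_O1 cv_inv cv_of_reg vpush_of_reg cv_left cv_right
  cv_of_isZero cv_of_lt cv_congr cv_tw cv_O_pos cSC Van nonempty_res_tensorPow tw isInvertible_tw)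

variable {S P : Scheme.{u}} {π : P ⟶ S} {O1 : P.Modules} {r : ℕ} (A : Atlas π O1 r)

/-- Large twists of a bundle are regular. -/
theorem exists_reg [CompactSpace S] (hinv : PicF.IsInvertible O1) {M : P.Modules} (hM : FlatMod.IsFinLocFree M) :
    ∃ m : ℕ, Reg A (CohB1.tensorMod M (CohB1.tensorPow O1 m)) := by
  obtain ⟨D, hD⟩ := exists_eventual A hinv hM
  refine ⟨D + r, fun y => ?_⟩
  obtain ⟨e⟩ := nonempty_res_tensorPow A y M (D + r)
  refine Groth.L22.Reg.regular_iso e.symm ?_
  haveI : Coh.IsQCoh M := Groth.L29.DC.PCQCoh.isQCoh_of_isFinLocFree hM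
  haveI : Coh.IsQCoh (A.res y M) := Groth.L16.AffineBC.isQCoh_pullback (A.h y) M
  haveI := Groth.L22.Reg.isQCoh_tw (A.res y M) ((D + r : ℕ) : ℤ)
  refine Groth.L22.Reg.regular_of_le_n fun q hq hqr => ?_
  obtain ⟨e'⟩ := Groth.L22.Reg.nonempty_tw_tw (A.res y M)
    (show ((D + r : ℕ) : ℤ) + (0 - (q : ℤ)) = ((D + r - q : ℕ) : ℤ) by omega)
  exact (Groth.L22.Reg.subsingleton_congr_iso e' q).2 (hD (D + r - q) (by omega) q hq y)

include A in
/-- The counit at a regular quasi-coherent module is an epimorphism. -/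
theorem epi_counit {M : P.Modules} [Coh.IsQCoh M] (hreg : Reg A M) :
    Epi ((Scheme.Modules.pullbackPushforwardAdjunction π).counit.app M) := by
  refine Preadditive.epi_of_cancel_zero _ fun {G} g hg => ?_
  have h1 : (Scheme.Modules.pushforward π).map g = 0 := by
    let adj := Scheme.Modules.pullbackPushforwardAdjunction π
    have h2 : adj.homEquiv _ _ (adj.counit.app M ≫ g) = (Scheme.Modules.pushforward π).map g := by
      rw [Adjunction.homEquiv_unit, Functor.map_comp, ← Category.assoc]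
      erw [adj.right_triangle_components]
      exact Category.id_comp _
    rw [← h2, hg, Adjunction.homEquiv_unit, Functor.map_zero, comp_zero]
  refine Groth.L21.Mod.hom_ext_of_restrict (fun y => A.h y) (fun x => ?_) fun y => ?_
  · obtain ⟨w, hw⟩ : x ∈ (A.h (π x)).opensRange := (A.range (π x)).ge (A.mem (π x))
    exact ⟨π x, w, hw⟩
  · let j := Scheme.Modules.restrictFunctorIsoPullback (A.h y)
    let gr := (Scheme.Modules.restrictFunctor (A.h y)).map g
    have hz : ∀ s, gr.app ⊤ s = 0 := fun s => by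
      have e : (A.h y) ''ᵁ ⊤ = π ⁻¹ᵁ A.V y := (Scheme.Hom.image_top_eq_opensRange _).trans (A.range y)
      have hv : ∀ {W : P.Opens}, W = π ⁻¹ᵁ A.V y → ∀ t : Γ(M, W), g.app W t = 0 := by
        rintro W rfl t
        exact congr($(congrArg (fun k => Scheme.Modules.Hom.app k (A.V y)) h1) t)
      exact hv e s
    haveI : Coh.IsQCoh (A.res y M) := Groth.L16.AffineBC.isQCoh_pullback (A.h y) M
    have h0 : (j.app M).inv ≫ gr = 0 := eq_zero_of_regular (hreg y) _ fun t => hz _
    rw [Functor.map_zero]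
    exact (cancel_epi (j.app M).inv).1 (h0.trans comp_zero.symm)

include A in
theorem vb_push {F : P.Modules} (hF : FlatMod.IsFinLocFree F) (hreg : Reg A F) :
    FlatMod.IsFinLocFree ((Scheme.Modules.pushforward π).obj F) := by
  haveI : Coh.IsQCoh F := Groth.L29.DC.PCQCoh.isQCoh_of_isFinLocFree hF
  exact isFinLocFree_push_bundle A hF fun q hq => vpush_of_reg A hreg hq

include A in
/-- Vanishing of the twists of the pullback of a bundle. -/
theorem cv_pullback (hO : PicF.IsInvertible O1) {L : P.Modules} (hL : PicF.IsInvertible L)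
    (hLO : ClSub.IsInverseOf L O1) {N : S.Modules} (hN : FlatMod.IsFinLocFree N) {q : ℕ} (hq : 1 ≤ q) {d : ℤ}
    (hd : -(r : ℤ) ≤ d) : CV A q d ((Scheme.Modules.pullback π).obj N) := by
  haveI := A.isProper
  haveI := Groth.L17.PushQCoh.hasInjectiveResolutions P
  haveI : (Coh.Rpush π q).PreservesZeroMorphisms := inferInstance
  have hT := Groth.L16.Existence.isFinLocFree_of_isInvertible (isInvertible_tw hO hL d)
  have hNt := Groth.L29.DC.isFinLocFree_tensor (Groth.L29.LocFree.pullback π hN) hT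
  haveI : Coh.IsQCoh (CohB1.tensorMod ((Scheme.Modules.pullback π).obj N) (tw O1 L d)) :=
    Groth.L29.DC.PCQCoh.isQCoh_of_isFinLocFree hNt
  haveI : Coh.IsQCoh (tw O1 L d) := Groth.L29.DC.PCQCoh.isQCoh_of_isFinLocFree hT
  refine (cv_tw A hLO (add_zero d)).1 ((cv_zero_iff A q).1 ?_)
  have h0 : VPush π q (tw O1 L d) := (cv_zero_iff A q).2 ((cv_congr A (tensorUnitLeft _) q 0).1
    ((cv_tw A hLO (add_zero d)).2 (cv_O_pos A hq hd)))
  obtain ⟨e⟩ := Groth.L17.nonempty_toAb_Rpush_iso π (tw O1 L d) q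
  obtain ⟨e'⟩ := Groth.L17.nonempty_toAb_Rpush_iso π (CohB1.tensorMod ((Scheme.Modules.pullback π).obj N) (tw O1 L d)) q
  obtain ⟨p⟩ := Groth.L17.ProjFormula.nonempty_Rpush_iso π N (tw O1 L d) hN q
  refine IsZero.of_iso ((toAbShF S).map_isZero (IsZero.of_iso ?_ p.symm)) e'.symm
  exact Groth.L12.KBun.isZero_tensor_right (Groth.L17.PushQCoh.isZero_of_toAb (h0.of_iso e)) N

include A in
/-- The direct image of the pullback of a bundle. -/
theorem nonempty_push_pull {M : S.Modules} (hM : FlatMod.IsFinLocFree M) :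
    Nonempty ((Scheme.Modules.pushforward π).obj ((Scheme.Modules.pullback π).obj M) ≅ M) := by
  haveI := A.isProper
  haveI := Groth.L17.PushQCoh.hasInjectiveResolutions P
  haveI := Groth.L17.PushQCoh.additive_push π
  obtain ⟨p⟩ := Groth.L17.ProjFormula.nonempty_Rpush_iso π M (Coh.structureModule P) hM 0
  obtain ⟨w⟩ := A.nonempty_push_structure_iso
  let z := (Scheme.Modules.pushforward π).rightDerivedZeroIsoSelf
  exact ⟨(Scheme.Modules.pushforward π).mapIso (tensorUnitRight _).symm ≪≫ (z.app _).symm ≪≫ p.symm ≪≫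
    tensorIso (Iso.refl M) (z.app _ ≪≫ w.symm) ≪≫ tensorUnitRight M⟩

include A in
theorem shortExact_cSC {F : P.Modules} (hF : FlatMod.IsFinLocFree F) (hreg : Reg A F) : (cSC π F).ShortExact := by
  haveI : Coh.IsQCoh F := Groth.L29.DC.PCQCoh.isQCoh_of_isFinLocFree hF
  exact { exact := ShortComplex.exact_kernel _, mono_f := inferInstanceAs (Mono (kernel.ι _)),
          epi_g := epi_counit A hreg }

include A in
theorem vb_X₁ {F : P.Modules} (hF : FlatMod.IsFinLocFree F) (hreg : Reg A F) :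
    FlatMod.IsFinLocFree (cSC π F).X₁ := by
  haveI := (shortExact_cSC A hF hreg).epi_g
  exact Groth.L29.DC.isFinLocFree_kernel_of_epi (cSC π F).g (Groth.L29.LocFree.pullback _ (vb_push A hF hreg)) hF

variable (hO : PicF.IsInvertible O1) {L : P.Modules} (hL : PicF.IsInvertible L) (hLO : ClSub.IsInverseOf L O1)

include A hO hL hLO in
theorem cv_X₁ {F : P.Modules} (hF : FlatMod.IsFinLocFree F) (hreg : Reg A F) (q : ℕ) :
    CV A (q + 1) (-(q : ℤ)) (cSC π F).X₁ := by
  haveI := A.isProper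
  haveI : Coh.IsQCoh F := Groth.L29.DC.PCQCoh.isQCoh_of_isFinLocFree hF
  have hT := vb_push A hF hreg
  haveI : Coh.IsQCoh (cSC π F).X₁ := Groth.L29.DC.PCQCoh.isQCoh_of_isFinLocFree (vb_X₁ A hF hreg)
  haveI : Coh.IsQCoh (cSC π F).X₂ :=
    Groth.L29.DC.PCQCoh.isQCoh_of_isFinLocFree (Groth.L29.LocFree.pullback π hT)
  rcases Nat.lt_or_ge r (q + 1) with h | h
  · exact cv_of_lt A h _
  rcases Nat.eq_zero_or_pos q with rfl | hq
  · rw [Nat.cast_zero, neg_zero]
    refine (cv_zero_iff A 1).1 (vpush_left π (shortExact_cSC A hF hreg) 0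
      ((cv_zero_iff A 1).2 (cv_pullback A hO hL hLO hT le_rfl (by omega))) ?_)
    haveI : PreservesFiniteLimits (Coh.pushAb π) :=
      inferInstanceAs (PreservesFiniteLimits (TopCat.Sheaf.pushforward AddCommGrpCat.{u} π.base))
    haveI hepi : Epi ((Scheme.Modules.pushforward π).map (cSC π F).g) :=
      (IsSplitEpi.mk' ⟨(Scheme.Modules.pullbackPushforwardAdjunction π).unit.app _,
        (Scheme.Modules.pullbackPushforwardAdjunction π).right_triangle_components F⟩).epi
    haveI : Epi ((Coh.pushAb π).map ((toAbShF _).map (cSC π F).g)) :=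
      inferInstanceAs (Epi ((toAbShF S).map ((Scheme.Modules.pushforward π).map (cSC π F).g)))
    show Epi ((Coh.RpushAb π 0).map ((toAbShF _).map (cSC π F).g))
    have hnat := (Coh.pushAb π).rightDerivedZeroIsoSelf.hom.naturality ((toAbShF _).map (cSC π F).g)
    rw [← Iso.app_hom, ← Iso.app_hom, ← Iso.eq_comp_inv, Category.assoc] at hnat
    exact hnat ▸ inferInstanceAs (Epi (((Coh.pushAb π).rightDerivedZeroIsoSelf.app _).hom ≫
      (Coh.pushAb π).map ((toAbShF _).map (cSC π F).g) ≫
      ((Coh.pushAb π).rightDerivedZeroIsoSelf.app _).inv))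
  · exact cv_left A (shortExact_cSC A hF hreg) (cv_pullback A hO hL hLO hT (by omega) (by omega))
      (cv_of_reg A hreg hq le_rfl)

include A hO hL hLO in
theorem reg_next {F : P.Modules} (hF : FlatMod.IsFinLocFree F) (hreg : Reg A F) :
    Reg A (CohB1.tensorMod (cSC π F).X₁ O1) := fun y q hq => by
  obtain ⟨q, rfl⟩ : ∃ q', q = q' + 1 := ⟨q - 1, by omega⟩
  exact (cv_O1 A (show (1 : ℤ) + (0 - ((q + 1 : ℕ) : ℤ)) = -(q : ℤ) by omega)).2
    (cv_X₁ A hO hL hLO hF hreg q) y

include A in
theorem isZero_push_X₁ {F : P.Modules} (hF : FlatMod.IsFinLocFree F) (hreg : Reg A F) :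
    IsZero ((Scheme.Modules.pushforward π).obj (cSC π F).X₁) := by
  haveI : (Scheme.Modules.pushforward π).IsRightAdjoint :=
    (Scheme.Modules.pullbackPushforwardAdjunction π).isRightAdjoint
  have hT := vb_push A hF hreg
  obtain ⟨w⟩ := nonempty_push_pull A hT
  let g : (Scheme.Modules.pushforward π).obj (cSC π F).X₂ ⟶ (Scheme.Modules.pushforward π).obj F :=
    (Scheme.Modules.pushforward π).map (cSC π F).g
  haveI : Epi g := (IsSplitEpi.mk' ⟨(Scheme.Modules.pullbackPushforwardAdjunction π).unit.app _,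
    (Scheme.Modules.pullbackPushforwardAdjunction π).right_triangle_components F⟩).epi
  haveI : Epi (w.inv ≫ g) := epi_comp _ _
  haveI := Groth.L12.ZarPair.isIso_of_epi_endo (Groth.L16.NegPow.isCoh_of_isFinLocFree hT) (w.inv ≫ g)
  haveI : IsIso g := IsIso.of_isIso_comp_left w.inv g
  haveI : Mono (cSC π F).f := inferInstanceAs (Mono (kernel.ι _))
  haveI : Mono ((Scheme.Modules.pushforward π).map (cSC π F).f) := inferInstance
  refine IsZero.of_mono_eq_zero ((Scheme.Modules.pushforward π).map (cSC π F).f) ?_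
  rw [← cancel_mono g, zero_comp, ← Functor.map_comp, (cSC π F).zero, Functor.map_zero]

include A hO hL hLO in
theorem van_next {j : ℕ} (hj : j ≤ r) {F : P.Modules} (h : Van A j F) :
    Van A (j + 1) (CohB1.tensorMod (cSC π F).X₁ O1) := by
  refine ⟨Groth.L29.DC.isFinLocFree_tensor (vb_X₁ A h.1 h.2.1)
    (Groth.L16.Existence.isFinLocFree_of_isInvertible hO), reg_next A hO hL hLO h.1 h.2.1, fun q a ha haj haq => ?_⟩
  obtain ⟨a, rfl⟩ : ∃ a', a = a' + 1 := ⟨a - 1, by omega⟩
  refine (cv_O1 A (show (1 : ℤ) + -((a + 1 : ℕ) : ℤ) = -(a : ℤ) by omega)).2 ?_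
  haveI : Coh.IsQCoh (cSC π F).X₁ := Groth.L29.DC.PCQCoh.isQCoh_of_isFinLocFree (vb_X₁ A h.1 h.2.1)
  rcases Nat.eq_zero_or_pos q with rfl | hq
  · obtain rfl : a = 0 := by omega
    rw [Nat.cast_zero, neg_zero]
    exact (cv_zero_iff A 0).1 ((Groth.L12.KRR.vpush_zero_iff π).2 (isZero_push_X₁ A h.1 h.2.1))
  obtain ⟨q, rfl⟩ : ∃ q', q = q' + 1 := ⟨q - 1, by omega⟩
  rcases Nat.eq_zero_or_pos a with rfl | ha'
  · exact (cv_O1 A (show (1 : ℤ) + -1 = -((0 : ℕ) : ℤ) by norm_num)).1
      (cv_of_reg A (reg_next A hO hL hLO h.1 h.2.1) (by omega) (by omega))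
  · exact cv_left A (shortExact_cSC A h.1 h.2.1)
      (cv_pullback A hO hL hLO (vb_push A h.1 h.2.1) (by omega) (by omega))
      (h.2.2 q a ha' (by omega) (by omega))

include A hL hLO in
theorem isZero_of_van {F : P.Modules} (h : Van A (r + 1) F) : IsZero F := by
  haveI := A.isProper
  let G := CohB1.tensorMod F L
  have hG : FlatMod.IsFinLocFree G :=
    Groth.L29.DC.isFinLocFree_tensor h.1 (Groth.L16.Existence.isFinLocFree_of_isInvertible hL)
  haveI : Coh.IsQCoh G := Groth.L29.DC.PCQCoh.isQCoh_of_isFinLocFree hG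
  haveI : Coh.IsQCoh F := Groth.L29.DC.PCQCoh.isQCoh_of_isFinLocFree h.1
  have hreg : Reg A G := fun y q hq =>
    (cv_inv A hLO (show (-1 : ℤ) + (0 - (q : ℤ)) = -((q + 1 : ℕ) : ℤ) by omega)).2 (by
      rcases Nat.lt_or_ge r q with hrq | hrq
      · exact cv_of_lt A hrq _
      · exact h.2.2 q (q + 1) (by omega) (by omega) le_rfl) y
  have hp : IsZero ((Scheme.Modules.pushforward π).obj G) := (Groth.L12.KRR.vpush_zero_iff π).1 <|
    (cv_zero_iff A 0).2 <|
      (cv_inv A hLO (show (-1 : ℤ) + 0 = -((1 : ℕ) : ℤ) by norm_num)).2 (h.2.2 0 1 le_rfl (by omega) (by omega))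
  haveI := epi_counit A hreg
  haveI : (Scheme.Modules.pullback π).IsLeftAdjoint :=
    (Scheme.Modules.pullbackPushforwardAdjunction _).isLeftAdjoint
  have hz : IsZero G := IsZero.of_epi ((Scheme.Modules.pullbackPushforwardAdjunction π).counit.app G)
    ((Scheme.Modules.pullback π).map_isZero hp)
  obtain ⟨u⟩ := hLO
  exact ((tensorRightF O1).map_isZero hz).of_iso
    (tensorAssoc F L O1 ≪≫ tensorIso (Iso.refl F) u ≪≫ tensorUnitRight F).symm

end Groth.L12.KBunQ
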