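import Groth.Agent.L12.KBunQ.Basis
import Groth.Agent.L16.ProjSpace.RelTwist
import Groth.Agent.L18.Grass.QuotChart
import Groth.Agent.L22.Reg.CounitT

/-!
# Projective space as a projective bundle with charts, over any base
-/

set_option autoImplicit false
set_option maxHeartbeats 400000
set_option linter.style.haveILetI false
set_option linter.unusedSectionVars false
set_option backward.isDefEq.respectTransparency false
set_option backward.isDefEq.respectTransparency.types false

universe u

open CategoryTheory CategoryTheory.Limits AlgebraicGeometry TopologicalSpace Opposite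

attribute [local instance] HasDerivedCategory.standard

noncomputable section

namespace Groth.L12.KBunQ

open Groth.L20.PnPic (toPt isPullback_toPt)
open Groth.L12.KBun (Atlas)
open Groth.L22.Reg (sm toZ hcov)

variable (r : ℕ) (S : Scheme.{u})

theorem exists_affine_nhd (y : S) : ∃ V : S.Opens, IsAffineOpen V ∧ y ∈ V := by
  obtain ⟨_, ⟨V, hV, rfl⟩, hyV, -⟩ := S.isBasis_affineOpens.exists_subset_of_mem_open (Set.mem_univ y) isOpen_univ
  exact ⟨V, hV, hyV⟩

theorem exists_projAtlas : Nonempty (Atlas (KRR.pr r S) (Twist.twistOver r S 1) r) := by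
  choose V hV hyV using exists_affine_nhd S
  have hi : ∀ y, IsOpenImmersion (toPt r (hV y).fromSpec) := fun y => by
    haveI : IsOpenImmersion (hV y).fromSpec := inferInstance
    exact MorphismProperty.of_isPullback (isPullback_toPt r (hV y).fromSpec).flip inferInstance
  refine ⟨⟨V, hV, hyV, fun y => toPt r (hV y).fromSpec, hi, fun y => ?_, fun y => ?_, fun y => ?_⟩⟩
  · have hsq := isPullback_toPt r (hV y).fromSpec
    refine Opens.ext ?_
    show Set.range (toPt r (hV y).fromSpec) = (CohB1.ProjSpaceOver.toBase r S) ⁻¹' (V y : Set S)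
    rw [← (hV y).range_fromSpec]
    rw [← hsq.isoPullback_hom_fst, Scheme.Hom.comp_base, TopCat.coe_comp, Set.range_comp,
      Set.range_eq_univ.2 hsq.isoPullback.hom.surjective, Set.image_univ]
    exact Scheme.Pullback.range_fst _ _
  · exact (isPullback_toPt r (hV y).fromSpec).w
  · exact (Groth.L16.ProjSpace.nonempty_pullback_twistOver_iso (r := r) (hV y).fromSpec 1).some

/-- The coordinate sections of `O(1)`. -/
def coord (i : Fin (r + 1)) : Coh.structureModule (KRR.PY r S) ⟶ Twist.twistOver r S 1 :=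
  (Groth.L29.LocFree.pullbackUnitIso (toZ r S)).symm.hom ≫
    (Scheme.Modules.pullback (toZ r S)).map (Groth.L16.ProjTwist.sect (CohB1.polyGrading r (ULift.{u} ℤ))
      ⟨MvPolynomial.X i, Groth.L16.ProjSpace.X_mem r _ i⟩)

theorem exists_mem_genLocus_coord (x : KRR.PY r S) : ∃ i, x ∈ CohB1.genLocus _ (coord r S i) := by
  obtain ⟨i, hi⟩ := Groth.L16.ProjSpace.exists_mem_basicOpen_X r (ULift.{u} ℤ) (toZ r S x)
  let f : CohB1.polyGrading r (ULift.{u} ℤ) 1 := ⟨MvPolynomial.X i, Groth.L16.ProjSpace.X_mem r _ i⟩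
  have hg := Groth.L16.ProjTwist.genLocus_sect (CohB1.polyGrading r (ULift.{u} ℤ)) (hcov r _) f
  exact ⟨i, ((Groth.L18.Ample.genLocus_iso_pullback (toZ r S)
    (Groth.L16.ProjTwist.isInvertible_twistProjSpace r _ ((1 : ℕ) : ℤ)) _ _).trans (congrArg _ hg)).ge hi⟩

/-- The tautological quotient. -/
def tautQ : (Scheme.Modules.pullback (KRR.pr r S)).obj (FlatMod.freeMod S (r + 1)) ⟶ Twist.twistOver r S 1 :=
  (Groth.L29.LocFree.pullbackFreeIso (KRR.pr r S) (r + 1)).hom ≫ Sigma.desc fun i => coord r S i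

theorem epi_tautQ : Epi (tautQ r S) := by
  haveI : Epi (Sigma.desc fun i : Fin (r + 1) => coord r S i) := by
    refine (Groth.L21.Mod.epi_iff_stalk_surjective _).2 fun x => ?_
    obtain ⟨i, hi⟩ := exists_mem_genLocus_coord r S x
    have h := (Groth.L22.Reg.bijective_sm_of_mem_genLocus (coord r S i) hi).2
    have e : Sigma.ι (fun _ : Fin (r + 1) => Coh.structureModule (KRR.PY r S)) i ≫
        (Sigma.desc fun i : Fin (r + 1) => coord r S i) = coord r S i :=
      Sigma.ι_desc (fun i : Fin (r + 1) => coord r S i) i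
    intro v
    obtain ⟨w, hw⟩ := h v
    refine ⟨(Groth.L21.Mod.stalkF _ x).map (Sigma.ι (fun _ : Fin (r + 1) =>
      Coh.structureModule (KRR.PY r S)) i) w, ?_⟩
    rw [← ConcreteCategory.comp_apply, ← Functor.map_comp, e]
    exact hw
  exact epi_comp _ _

theorem exists_setup : ∃ L, Setup (KRR.pr r S) (tautQ r S) L r := by
  refine ⟨Twist.twistOver r S (-1), epi_tautQ r S, ?_, Groth.L18.QuotChart.isFinLocFreeOfRank_free S (r + 1),
    Groth.L17.Strat.isInvertible_twistOver r S (-1), ?_⟩
  · exact Groth.L18.KRRAmple.isRankOne_of_isInvertible (Groth.L17.Strat.isInvertible_twistOver r S 1)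
  · obtain ⟨e⟩ := Groth.L22.Reg.nonempty_OT_add r S (show (-1 : ℤ) + 1 = 0 by norm_num)
    obtain ⟨e0⟩ := Groth.L22.Reg.nonempty_OT_zero r S
    exact ⟨e ≪≫ e0⟩

end Groth.L12.KBunQ
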