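import Groth.Agent.L12.KBunQ.Proj
import Groth.Prelude.Def_SGA6

/-!
# `K` of projective space on the twists `O(i)`, and equality of classes of direct images of twists
-/

set_option autoImplicit false
set_option maxHeartbeats 400000
set_option linter.style.haveILetI false
set_option linter.unusedSectionVars false
set_option backward.isDefEq.respectTransparency false
set_option backward.isDefEq.respectTransparency.types false

universe u

open CategoryTheory CategoryTheory.Limits AlgebraicGeometry

attribute [local instance] HasDerivedCategory.standard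

noncomputable section

namespace Groth.L12.KBunQ

open Groth.L12.Kvb (KR)
open Groth.L12.KBun (Atlas tautSC)

variable {S P : Scheme.{u}} {π : P ⟶ S} {O1 L : P.Modules} {r : ℕ} {E : S.Modules}
  {q : (Scheme.Modules.pullback π).obj E ⟶ O1}

theorem Setup.bijective_comb [Coh.IsQCoh E] [Coh.IsQCoh (tautSC q).X₁] [Coh.IsQCoh O1] [CompactSpace S]
    (D : Setup π q L r) (A : Atlas π O1 r) (g : KR S →+* KR P)
    (hg : ∀ M, FlatMod.IsFinLocFree M → g (kc S M) = kc P ((Scheme.Modules.pullback π).obj M)) :
    Function.Bijective (fun a : Fin (r + 1) → KR S => ∑ i : Fin (r + 1), g (a i) * kc P O1 ^ (i : ℕ)) := by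
  have h := (D.bijective_combInv A g hg).comp ((Equiv.arrowCongr Fin.revPerm (Equiv.refl (KR S))).bijective)
  obtain ⟨u, hu⟩ := (isUnit_kc D.hO).pow r
  have h' := (Units.mulLeft u).bijective.comp h
  convert h' using 1
  funext a
  show _ = (u : KR P) * D.combInv g (fun i => a (Fin.revPerm.symm i))
  rw [Setup.combInv_apply, hu, Finset.mul_sum, ← Equiv.sum_comp Fin.revPerm (fun i => kc P O1 ^ r * _)]
  refine Finset.sum_congr rfl fun j _ => ?_
  have hj := j.isLt
  rw [Equiv.symm_apply_apply, Fin.revPerm_apply, Fin.val_rev,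
    show kc P O1 ^ r = kc P O1 ^ (j : ℕ) * kc P O1 ^ (r - (j : ℕ)) by rw [← pow_add]; congr 1; omega,
    show r + 1 - ((j : ℕ) + 1) = r - (j : ℕ) by omega]
  have e : kc P L ^ (r - (j : ℕ)) * kc P O1 ^ (r - (j : ℕ)) = 1 := by rw [← mul_pow, D.kc_mul, one_pow]
  linear_combination (-(g (a j) * kc P O1 ^ (j : ℕ))) * e

theorem mapSub_cl' {X Y : Scheme.{u}} (F : X.Modules ⥤ Y.Modules) [F.Additive] [PreservesFiniteLimits F]
    [PreservesFiniteColimits F] (h : ∀ M, FlatMod.IsFinLocFree M → FlatMod.IsFinLocFree (F.obj M))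
    {M : X.Modules} (hM : FlatMod.IsFinLocFree M) :
    SGA6.mapSub F (fun M : X.Modules => FlatMod.IsFinLocFree M) (fun M : Y.Modules => FlatMod.IsFinLocFree M) h
      (_root_.KRR.cl X M) = _root_.KRR.cl Y (F.obj M) := by
  rw [_root_.KRR.cl, _root_.KRR.cl, Groth.L29.KSub.clSub_of _ hM, Groth.L29.KSub.clSub_of _ (h M hM)]
  rfl

/-- Bundles with the same class have eventually the same classes of direct images of twists. -/
theorem Setup.exists_pc_eq [CompactSpace S] (D : Setup π q L r) (A : Atlas π O1 r) {F G : P.Modules}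
    (hF : FlatMod.IsFinLocFree F) (hG : FlatMod.IsFinLocFree G) (h : _root_.KRR.cl P F = _root_.KRR.cl P G) :
    ∃ N : ℕ, ∀ m, N ≤ m →
      pc π (CohB1.tensorMod F (CohB1.tensorPow O1 m)) = pc π (CohB1.tensorMod G (CohB1.tensorPow O1 m)) := by
  obtain ⟨Φ, hΦ⟩ := D.exists_germHom A
  have e : D.seq F = D.seq G := by rw [← hΦ F hF, ← hΦ G hG, kc, kc, h]
  exact Filter.eventually_atTop.1 (Filter.Germ.coe_eq.1 e)

end Groth.L12.KBunQ
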