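import Groth.Agent.L12.KRR.Pull
import Groth.Agent.L12.KRR.Gen
import Groth.Agent.L12.Kvb.Lambda
import Groth.Agent.L29.LocFree
import Groth.Agent.L08.Cube.Inverse

/-!
# The ring of bundles and its pullback, over any scheme
-/

set_option autoImplicit false
set_option maxHeartbeats 400000
set_option linter.style.haveILetI false
set_option linter.unusedSectionVars false
set_option backward.isDefEq.respectTransparency false
set_option backward.isDefEq.respectTransparency.types false

universe u

open CategoryTheory CategoryTheory.Limits AlgebraicGeometry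

attribute [local instance] HasDerivedCategory.standard

noncomputable section

namespace Groth.L12.KBunQ

open Groth.L12.Kvb (KR toKR)

variable {X Y : Scheme.{u}}

/-- The class of a module in the ring of bundles. -/
abbrev kc (X : Scheme.{u}) (M : X.Modules) : KR X := toKR X (_root_.KRR.cl X M)

theorem kc_iso {M N : X.Modules} (e : M ≅ N) (hM : FlatMod.IsFinLocFree M) : kc X M = kc X N :=
  congrArg (toKR X) (Groth.L12.Kvb.cl_iso e hM)

theorem kc_shortExact {T : ShortComplex X.Modules} (hT : T.ShortExact) (h₁ : FlatMod.IsFinLocFree T.X₁)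
    (h₂ : FlatMod.IsFinLocFree T.X₂) (h₃ : FlatMod.IsFinLocFree T.X₃) : kc X T.X₂ = kc X T.X₁ + kc X T.X₃ :=
  (congrArg (toKR X) (Groth.L12.Kvb.cl_shortExact hT h₁ h₂ h₃)).trans (map_add _ _ _)

theorem kc_zero {M : X.Modules} (hM : IsZero M) : kc X M = 0 :=
  (congrArg (toKR X) (Groth.L29.KSub.clSub_zero (_root_.KRR.vbP X) hM (Groth.L29.LocFree.of_isZero hM))).trans
    (map_zero _)

theorem kc_tensor {M N : X.Modules} (hM : FlatMod.IsFinLocFree M) (hN : FlatMod.IsFinLocFree N) :
    kc X (CohB1.tensorMod M N) = kc X M * kc X N :=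
  (Groth.L12.Kvb.toKR_cl_mul hM hN).symm

theorem kc_one : kc X (Coh.structureModule X) = 1 := rfl

theorem kc_inverse {L M : X.Modules} (hL : PicF.IsInvertible L) (hM : PicF.IsInvertible M)
    (h : ClSub.IsInverseOf L M) : kc X L * kc X M = 1 := by
  obtain ⟨u⟩ := h
  have h1 := Groth.L16.Existence.isFinLocFree_of_isInvertible hL
  have h2 := Groth.L16.Existence.isFinLocFree_of_isInvertible hM
  rw [← kc_tensor h1 h2, kc_iso u (Groth.L29.DC.isFinLocFree_tensor h1 h2), kc_one]

theorem isUnit_kc {L : X.Modules} (hL : PicF.IsInvertible L) : IsUnit (kc X L) := by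
  obtain ⟨M, hM, ⟨u⟩⟩ := Groth.L08.Cube.exists_inverse hL
  exact IsUnit.of_mul_eq_one_right (kc X M) (kc_inverse hM hL ⟨Groth.L00.Tensor.tensorComm _ _ ≪≫ u⟩)

theorem kc_tensorPow {L : X.Modules} (hL : PicF.IsInvertible L) :
    ∀ k : ℕ, kc X (CohB1.tensorPow L k) = kc X L ^ k
  | 0 => by rw [pow_zero]; rfl
  | k + 1 => by
    rw [pow_succ, ← kc_tensorPow hL k]
    exact kc_tensor (Groth.L16.Existence.isFinLocFree_of_isInvertible (Groth.L18.Ample.isInvertible_tensorPow hL k))
      (Groth.L16.Existence.isFinLocFree_of_isInvertible hL)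

/-- Homomorphisms out of the ring of bundles are determined by the classes. -/
theorem KR_hom_ext {G : Type*} [AddCommGroup G] {φ ψ : KR X →+ G}
    (h : ∀ M, FlatMod.IsFinLocFree M → φ (kc X M) = ψ (kc X M)) : φ = ψ :=
  AddMonoidHom.ext fun x => DFunLike.congr_fun
    (Groth.L29.KSub.hom_ext (φ := φ.comp (toKR X)) (ψ := ψ.comp (toKR X)) h) x

/-- The pullback of classes. -/
theorem exists_pull (f : X ⟶ Y) : ∃ g : KR Y →+* KR X, ∀ M, FlatMod.IsFinLocFree M →
    g (kc Y M) = kc X ((Scheme.Modules.pullback f).obj M) := by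
  obtain ⟨g, hg⟩ := Groth.L12.KRR.exists_isPull f (φX := toKR X) (φY := toKR Y) Groth.L12.Kvb.toKR_bijective
  have h1 : g 1 = 1 := (hg _ Groth.L12.Kvb.isFinLocFree_O).trans
    (kc_iso (Groth.L29.LocFree.pullbackUnitIso f) (Groth.L29.LocFree.pullback f Groth.L12.Kvb.isFinLocFree_O))
  have hm : ∀ a b, g (a * b) = g a * g b := by
    intro a b
    suffices H : g.comp (AddMonoidHom.mulLeft a) = (AddMonoidHom.mulLeft (g a)).comp g from
      DFunLike.congr_fun H b
    refine KR_hom_ext fun N hN => ?_
    show g (a * kc Y N) = g a * g (kc Y N)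
    suffices H : g.comp (AddMonoidHom.mulRight (kc Y N)) = (AddMonoidHom.mulRight (g (kc Y N))).comp g from
      DFunLike.congr_fun H a
    refine KR_hom_ext fun M hM => ?_
    show g (kc Y M * kc Y N) = g (kc Y M) * g (kc Y N)
    have hMN := Groth.L29.DC.isFinLocFree_tensor hM hN
    rw [← kc_tensor hM hN]
    refine (hg _ hMN).trans ?_
    rw [hg M hM, hg N hN]
    exact (kc_iso (Groth.L29.DC.PullTensor.pullTensor f M N).symm (Groth.L29.LocFree.pullback f hMN)).trans
      (kc_tensor (Groth.L29.LocFree.pullback f hM) (Groth.L29.LocFree.pullback f hN))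
  exact ⟨{ g with map_one' := h1, map_mul' := hm }, hg⟩

end Groth.L12.KBunQ
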