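import Groth.Agent.L12.KBunQ.Taut
import Groth.Agent.L12.KBunQ.Ring

/-!
# Classes of direct images of twists, over any base
-/

set_option autoImplicit false
set_option maxHeartbeats 400000
set_option linter.style.haveILetI false
set_option linter.unusedSectionVars false
set_option backward.isDefEq.respectTransparency false
set_option backward.isDefEq.respectTransparency.types false

universe u

open CategoryTheory CategoryTheory.Limits AlgebraicGeometry TopologicalSpace Opposite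

attribute [local instance] HasDerivedCategory.standard

noncomputable section

namespace Groth.L12.KBunQ

open Groth.L22.Reg (VPush)
open Groth.L12.Kvb (KR)
open Groth.L12.ExtSh (wedgeMod)
open Groth.L00.Tensor (tensorIso tensorRightF tensorUnitRight tensorUnitLeft tensorAssoc tensorComm)
open Groth.L12.KBun (Atlas CV Good good_tw cv_zero_iff cv_congr cv_tw cv_O_pos cv_O_neg tautSC tw isInvertible_tw
  nonempty_O1_tensor_tw isZero_tensor_left)

variable {S P : Scheme.{u}} {π : P ⟶ S}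

/-- A bundle with a tautological quotient and an inverse of the line bundle. -/
structure Setup (π : P ⟶ S) {E : S.Modules} {O1 : P.Modules} (q : (Scheme.Modules.pullback π).obj E ⟶ O1)
    (L : P.Modules) (r : ℕ) : Prop where
  hq : Epi q
  hO1 : FlatMod.IsFinLocFreeOfRank 1 O1
  hE : FlatMod.IsFinLocFreeOfRank (r + 1) E
  hL : PicF.IsInvertible L
  hLO : ClSub.IsInverseOf L O1

variable {O1 L : P.Modules} {r : ℕ} (A : Atlas π O1 r)

include A in
theorem good_vb_push {M : P.Modules} (h : Good A M) :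
    FlatMod.IsFinLocFree ((Scheme.Modules.pushforward π).obj M) := by
  haveI : Coh.IsQCoh M := Groth.L29.DC.PCQCoh.isQCoh_of_isFinLocFree h.1
  exact isFinLocFree_push_bundle A h.1 fun q hq => (cv_zero_iff A q).2 (h.2 q hq)

variable (π) in
/-- The class of the direct image. -/
def pc (M : P.Modules) : KR S := kc S ((Scheme.Modules.pushforward π).obj M)

include A in
theorem pc_iso {M N : P.Modules} (e : M ≅ N) (h : Good A M) : pc π M = pc π N :=
  kc_iso ((Scheme.Modules.pushforward π).mapIso e) (good_vb_push A h)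

include A in
theorem pc_shortExact {T : ShortComplex P.Modules} (hT : T.ShortExact) (h₁ : Good A T.X₁) (h₂ : Good A T.X₂)
    (h₃ : Good A T.X₃) : pc π T.X₂ = pc π T.X₁ + pc π T.X₃ := by
  haveI := A.isProper
  haveI := Groth.L17.PushQCoh.additive_push π
  haveI : Coh.IsQCoh T.X₁ := Groth.L29.DC.PCQCoh.isQCoh_of_isFinLocFree h₁.1
  exact kc_shortExact (Groth.L12.KReg.shortExact_push π hT ((cv_zero_iff A 1).2 (h₁.2 1 le_rfl)))
    (good_vb_push A h₁) (good_vb_push A h₂) (good_vb_push A h₃)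

include A in
theorem pc_pull_tensor {N : S.Modules} (hN : FlatMod.IsFinLocFree N) {M : P.Modules} (hM : Good A M) :
    pc π (CohB1.tensorMod ((Scheme.Modules.pullback π).obj N) M) = kc S N * pc π M := by
  haveI := A.isProper
  haveI := Groth.L17.PushQCoh.hasInjectiveResolutions P
  haveI := Groth.L17.PushQCoh.additive_push π
  obtain ⟨p⟩ := Groth.L17.ProjFormula.nonempty_Rpush_iso π N M hN 0
  let z := (Scheme.Modules.pushforward π).rightDerivedZeroIsoSelf
  let e : (Scheme.Modules.pushforward π).obj (CohB1.tensorMod ((Scheme.Modules.pullback π).obj N) M) ≅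
      CohB1.tensorMod N ((Scheme.Modules.pushforward π).obj M) :=
    (z.app _).symm ≪≫ p.symm ≪≫ tensorIso (Iso.refl N) (z.app _)
  have hM' := good_vb_push A hM
  exact (kc_iso e.symm (Groth.L29.DC.isFinLocFree_tensor hN hM')).symm.trans (kc_tensor hN hM')

variable {E : S.Modules} {q : (Scheme.Modules.pullback π).obj E ⟶ O1}

namespace Setup

variable (D : Setup π q L r)

include D in
theorem hO : PicF.IsInvertible O1 := Groth.L22.GenRank.isInvertible_of_rank_one D.hO1

include D in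
theorem vbE : FlatMod.IsFinLocFree E := Groth.L18.KRRAmple.isFinLocFree_of_rank D.hE

include D in
theorem vbW : FlatMod.IsFinLocFree (tautSC q).X₁ := isFinLocFree_taut D.hq D.hO1 D.hE

variable [Coh.IsQCoh E] [Coh.IsQCoh (tautSC q).X₁] [Coh.IsQCoh O1]

include D in
theorem vb_wedgeW (i : ℕ) : FlatMod.IsFinLocFree (wedgeMod (tautSC q).X₁ i) :=
  Groth.L12.ExtSh.isFinLocFree_wedgeMod D.vbW i

include D in
theorem vb_wedgeE (i : ℕ) : FlatMod.IsFinLocFree (wedgeMod E i) :=
  Groth.L12.ExtSh.isFinLocFree_wedgeMod D.vbE i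

include A D in
theorem good_O {d : ℤ} (hd : -(r : ℤ) ≤ d) : Good A (tw O1 L d) :=
  (good_tw A D.hO D.hL D.hLO Groth.L12.Kvb.isFinLocFree_O fun _ hq => cv_O_pos A hq hd).of_iso A
    (tensorUnitLeft _)

include A D in
theorem good_pull {N : S.Modules} (hN : FlatMod.IsFinLocFree N) {d : ℤ} (hd : -(r : ℤ) ≤ d) :
    Good A (CohB1.tensorMod ((Scheme.Modules.pullback π).obj N) (tw O1 L d)) :=
  good_tw A D.hO D.hL D.hLO (Groth.L29.LocFree.pullback π hN)
    fun _ hq => cv_pullback A D.hO D.hL D.hLO hN hq hd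

include A D in
theorem good_wedge {i : ℕ} (hi : i ≤ r + 1) {d : ℤ} (hd : 1 - (i : ℤ) ≤ d) :
    Good A (CohB1.tensorMod (wedgeMod (tautSC q).X₁ i) (tw O1 L d)) :=
  good_tw A D.hO D.hL D.hLO (D.vb_wedgeW i) fun q' hq =>
    cv_wedge D.hq D.hO1 D.hE A D.hL D.hLO (r + 1 - i) i (by omega) q' hq d hd

/-- The classes of the direct images of the twists. -/
def s (_D : Setup π q L r) (d : ℤ) : KR S := pc π (tw O1 L d)

include A in
theorem s_zero : D.s 0 = 1 := by
  obtain ⟨w⟩ := A.nonempty_push_structure_iso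
  exact (kc_iso w Groth.L12.Kvb.isFinLocFree_O).symm.trans kc_one

include A in
theorem s_neg {d : ℤ} (h₀ : d < 0) (hd : -(r : ℤ) ≤ d) : D.s d = 0 := by
  haveI := A.isProper
  have hg := D.good_O A hd
  haveI : Coh.IsQCoh (tw O1 L d) := Groth.L29.DC.PCQCoh.isQCoh_of_isFinLocFree hg.1
  exact kc_zero ((Groth.L12.KRR.vpush_zero_iff π).1 ((cv_zero_iff A 0).2 ((cv_congr A (tensorUnitLeft _) 0 0).1
    ((cv_tw A D.hLO (add_zero d)).2 (cv_O_neg A h₀ hd)))))

include A in
theorem step {i : ℕ} (hi : i ≤ r) {m : ℤ} (hm : 1 ≤ m) :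
    pc π (CohB1.tensorMod (wedgeMod (tautSC q).X₁ i) (tw O1 L (m - i))) +
      pc π (CohB1.tensorMod (wedgeMod (tautSC q).X₁ (i + 1)) (tw O1 L (m - (i + 1 : ℕ)))) =
      kc S (wedgeMod E (i + 1)) * D.s (m - (i + 1 : ℕ)) := by
  obtain ⟨T, hT, ⟨e₁⟩, ⟨e₂⟩, ⟨e₃⟩⟩ := exists_wedge D.hq D.hO1 D.hE i
  set d := m - ((i + 1 : ℕ) : ℤ) with hd
  obtain ⟨w⟩ := nonempty_O1_tensor_tw (O1 := O1) D.hLO d
  rw [show d + 1 = m - (i : ℤ) by omega] at w
  let R := tensorRightF (tw O1 L d)
  have h₁ := D.good_wedge A (i := i + 1) (by omega) (show 1 - ((i + 1 : ℕ) : ℤ) ≤ d by omega)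
  have h₂ := D.good_pull A (D.vb_wedgeE (i + 1)) (show -(r : ℤ) ≤ d by omega)
  have h₃ := D.good_wedge A (i := i) (by omega) (show 1 - (i : ℤ) ≤ m - i by omega)
  let f₃ : R.obj T.X₃ ≅ CohB1.tensorMod (wedgeMod (tautSC q).X₁ i) (tw O1 L (m - i)) :=
    R.mapIso e₃ ≪≫ tensorAssoc _ _ _ ≪≫ tensorIso (Iso.refl _) w
  have h₁' := h₁.of_iso A (R.mapIso e₁).symm
  have h₂' := h₂.of_iso A (R.mapIso e₂).symm
  have h₃' := h₃.of_iso A f₃.symm
  have h := pc_shortExact A (Groth.L03.Euler.shortExact_tensor (isInvertible_tw D.hO D.hL d) hT) h₁' h₂' h₃'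
  change pc π (R.obj T.X₂) = pc π (R.obj T.X₁) + pc π (R.obj T.X₃) at h
  rw [pc_iso A (N := CohB1.tensorMod (wedgeMod (tautSC q).X₁ (i + 1)) (tw O1 L d)) (R.mapIso e₁) h₁',
    pc_iso A (N := CohB1.tensorMod ((Scheme.Modules.pullback π).obj (wedgeMod E (i + 1))) (tw O1 L d))
      (R.mapIso e₂) h₂',
    pc_iso A f₃ h₃', pc_pull_tensor A (D.vb_wedgeE _) (D.good_O A (by omega))] at h
  exact (add_comm _ _).trans h.symm

include A in
theorem partial_sum {m : ℤ} (hm : 1 ≤ m) : ∀ k : ℕ, k ≤ r + 1 →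
    ∑ i ∈ Finset.range (k + 1), (-1 : KR S) ^ i * kc S (wedgeMod E i) * D.s (m - i) =
      (-1) ^ k * pc π (CohB1.tensorMod (wedgeMod (tautSC q).X₁ k) (tw O1 L (m - k)))
  | 0, _ => by
    obtain ⟨e⟩ := Groth.L12.ExtSh.nonempty_iso_of_isExtPow
      (Groth.L12.ExtSh.isExtPow_wedgeMod (tautSC q).X₁ 0) (Groth.L12.Kvb.isExtPow_zero (tautSC q).X₁)
    obtain ⟨e'⟩ := Groth.L12.ExtSh.nonempty_iso_of_isExtPow
      (Groth.L12.ExtSh.isExtPow_wedgeMod E 0) (Groth.L12.Kvb.isExtPow_zero E)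
    rw [Finset.sum_range_one, pow_zero, one_mul, one_mul, kc_iso e' (D.vb_wedgeE 0), kc_one, one_mul]
    exact (pc_iso A (tensorIso e (Iso.refl _) ≪≫ tensorUnitLeft _)
      (D.good_wedge A (i := 0) (by omega) (by omega))).symm
  | k + 1, hk => by
    rw [Finset.sum_range_succ, partial_sum hm k (by omega), mul_assoc _ (kc S (wedgeMod E (k + 1))),
      ← D.step A (by omega) hm, pow_succ]
    ring

include A in
/-- The recursion of the classes of the direct images of the twists. -/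
theorem s_rec {m : ℤ} (hm : 1 ≤ m) :
    ∑ i ∈ Finset.range (r + 2), (-1 : KR S) ^ i * kc S (wedgeMod E i) * D.s (m - i) = 0 := by
  rw [D.partial_sum A hm (r + 1) le_rfl]
  have hz : IsZero ((Scheme.Modules.pushforward π).obj
      (CohB1.tensorMod (wedgeMod (tautSC q).X₁ (r + 1)) (tw O1 L (m - (r + 1 : ℕ))))) := by
    haveI : (Scheme.Modules.pushforward π).IsRightAdjoint :=
      (Scheme.Modules.pullbackPushforwardAdjunction π).isRightAdjoint
    exact (Scheme.Modules.pushforward π).map_isZero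
      (isZero_tensor_left (isZero_wedge_of_rank (rank_taut D.hq D.hO1 D.hE) (Nat.lt_succ_self r)) _)
  rw [pc, kc_zero hz, mul_zero]

end Setup

end Groth.L12.KBunQ
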