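import Groth.Agent.L12.ExtSh.Extension
import Groth.Agent.L12.ExtSh.TensBasis
import Groth.Agent.L12.Kvb.Rank
import Groth.Agent.L19.ProjBdl.Diff
import Groth.Agent.L17.FinLocBases

/-!
# Local ranks of bundles, and padding to a constant rank
-/

set_option autoImplicit false
set_option maxHeartbeats 400000
set_option linter.style.haveILetI false
set_option linter.unusedSectionVars false
set_option backward.isDefEq.respectTransparency false
set_option backward.isDefEq.respectTransparency.types false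

universe u

open CategoryTheory CategoryTheory.Limits AlgebraicGeometry TopologicalSpace Opposite

noncomputable section

namespace Groth.L12.KBunQ

open Groth.L19.ProjBdl (IsBasisOn lc)
open Groth.L18.Frame (rs)

variable {X : Scheme.{u}}

/-- `M` has a basis of length `n` near `x`. -/
def HasRk (M : X.Modules) (x : X) (n : ℕ) : Prop :=
  ∃ (V : X.Opens) (b : Fin n → Γ(M, V)), x ∈ V ∧ IsBasisOn M V b

theorem HasRk.exists_iso {M : X.Modules} {x : X} {n : ℕ} (h : HasRk M x n) :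
    ∃ U : X.Opens, x ∈ U ∧ Nonempty (M.restrict U.ι ≅ FlatMod.freeMod (↑U) n) := by
  obtain ⟨V, b, hx, hb⟩ := h
  obtain ⟨e⟩ := Groth.L20.ResDescent.nonempty_iso_free (le_of_eq (V.ι_preimage_self).symm) (hb.pullback V.ι)
  exact ⟨V, hx, ⟨(Scheme.Modules.restrictFunctorIsoPullback V.ι).app M ≪≫ e⟩⟩

theorem HasRk.unique {M : X.Modules} {x : X} {m n : ℕ} (h : HasRk M x m) (h' : HasRk M x n) : m = n := by
  obtain ⟨U, hU, ⟨i⟩⟩ := h.exists_iso
  obtain ⟨V, hV, ⟨j⟩⟩ := h'.exists_iso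
  exact Groth.L18.KRRAmple.rank_unique hU hV i j

theorem hasRk_of_iso_free {M : X.Modules} {U : X.Opens} {n : ℕ} (e : M.restrict U.ι ≅ FlatMod.freeMod (↑U) n)
    {x : X} (hx : x ∈ U) : HasRk M x n := by
  obtain ⟨s, hs⟩ := Groth.L17.FinLocBases.exists_isBasis M e
  exact ⟨U.ι ''ᵁ ⊤, s, ((Scheme.Hom.image_top_eq_opensRange U.ι).trans U.opensRange_ι).ge hx,
    Groth.L19.ProjBdl.isBasisOn_of_locBases hs⟩

theorem exists_hasRk {M : X.Modules} (hM : FlatMod.IsFinLocFree M) (x : X) : ∃ n, HasRk M x n := by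
  obtain ⟨U, n, hx, ⟨e⟩⟩ := hM x
  exact ⟨n, hasRk_of_iso_free e hx⟩

theorem hasRk_of_rank {M : X.Modules} {n : ℕ} (hM : FlatMod.IsFinLocFreeOfRank n M) (x : X) : HasRk M x n := by
  obtain ⟨U, hx, ⟨e⟩⟩ := hM x
  exact hasRk_of_iso_free e hx

theorem rank_of_hasRk {M : X.Modules} {n : ℕ} (h : ∀ x, HasRk M x n) : FlatMod.IsFinLocFreeOfRank n M :=
  fun x => (h x).exists_iso

theorem isFinLocFree_of_hasRk {M : X.Modules} (h : ∀ x, ∃ n, HasRk M x n) : FlatMod.IsFinLocFree M := fun x => by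
  obtain ⟨n, hn⟩ := h x
  obtain ⟨U, hx, e⟩ := hn.exists_iso
  exact ⟨U, n, hx, e⟩

theorem HasRk.of_iso {M N : X.Modules} (e : M ≅ N) {x : X} {n : ℕ} (h : HasRk M x n) : HasRk N x n := by
  obtain ⟨V, b, hx, hb⟩ := h
  exact ⟨V, _, hx, Groth.L19.ProjBdl.isBasisOn_of_iso e hb⟩

theorem HasRk.biprod {M N : X.Modules} {x : X} {m n : ℕ} (hM : HasRk M x m) (hN : HasRk N x n) :
    HasRk (M ⊞ N) x (m + n) := by
  obtain ⟨V, b, hx, hb⟩ := hM
  obtain ⟨W, c, hx', hc⟩ := hN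
  let T := ShortComplex.mk (biprod.inl : M ⟶ M ⊞ N) biprod.snd biprod.inl_snd
  have hT : T.ShortExact := (ShortComplex.Splitting.ofHasBinaryBiproduct M N).shortExact
  let σ : Fin n → Γ(M ⊞ N, V ⊓ W) := fun k =>
    (biprod.inr : N ⟶ M ⊞ N).app (V ⊓ W) (rs N (inf_le_right : V ⊓ W ≤ W) (c k))
  have hσ : IsBasisOn N (V ⊓ W) fun k => T.g.app (V ⊓ W) (σ k) := by
    rw [show (fun k => T.g.app (V ⊓ W) (σ k)) = fun k => rs N (inf_le_right : V ⊓ W ≤ W) (c k) from funext fun k =>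
      congr($(congrArg (fun φ => Scheme.Modules.Hom.app φ (V ⊓ W)) (biprod.inr_snd : _ ≫ _ = 𝟙 N))
        (rs N (inf_le_right : V ⊓ W ≤ W) (c k)))]
    exact hc.mono _
  exact ⟨V ⊓ W, _, ⟨hx, hx'⟩, Groth.L12.ExtSh.isBasisOn_append hT (hb.mono inf_le_left) hσ⟩

theorem HasRk.tensor {M N : X.Modules} {x : X} {m n : ℕ} (hM : HasRk M x m) (hN : HasRk N x n) :
    HasRk (CohB1.tensorMod M N) x (m * n) := by
  obtain ⟨V, b, hx, hb⟩ := hM
  obtain ⟨W, c, hx', hc⟩ := hN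
  exact ⟨V ⊓ W, _, ⟨hx, hx'⟩, Groth.L12.ExtSh.isBasisOn_tens (hb.mono inf_le_left) (hc.mono inf_le_right)⟩

theorem HasRk.pullback {T : Scheme.{u}} (g : T ⟶ X) {M : X.Modules} {x : T} {n : ℕ} (h : HasRk M (g x) n) :
    HasRk ((Scheme.Modules.pullback g).obj M) x n := by
  obtain ⟨V, b, hx, hb⟩ := h
  exact ⟨g ⁻¹ᵁ V, _, hx, hb.pullback g⟩

/-- Rank at most one everywhere. -/
def SubLine (M : X.Modules) : Prop := ∀ x, ∃ n ≤ 1, HasRk M x n

theorem SubLine.vb {M : X.Modules} (h : SubLine M) : FlatMod.IsFinLocFree M :=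
  isFinLocFree_of_hasRk fun x => (h x).imp fun _ => And.right

theorem subLine_of_rank_one {M : X.Modules} (h : FlatMod.IsFinLocFreeOfRank 1 M) : SubLine M :=
  fun x => ⟨1, le_rfl, hasRk_of_rank h x⟩

theorem SubLine.tensor {M N : X.Modules} (hM : SubLine M) (hN : SubLine N) : SubLine (CohB1.tensorMod M N) :=
  fun x => by
    obtain ⟨m, hm, h⟩ := hM x
    obtain ⟨n, hn, h'⟩ := hN x
    exact ⟨m * n, Nat.mul_le_mul hm hn, h.tensor h'⟩

theorem SubLine.pullback {T : Scheme.{u}} (g : T ⟶ X) {M : X.Modules} (h : SubLine M) :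
    SubLine ((Scheme.Modules.pullback g).obj M) := fun x => by
  obtain ⟨n, hn, h'⟩ := h (g x)
  exact ⟨n, hn, h'.pullback g⟩

theorem SubLine.isZero_wedge {M : X.Modules} [Coh.IsQCoh M] (h : SubLine M) {m : ℕ} (hm : 2 ≤ m) :
    IsZero (Groth.L12.ExtSh.wedgeMod M m) := by
  refine Groth.L12.Kvb.isZero_of_rank_zero (rank_of_hasRk fun x => ?_)
  obtain ⟨n, hn, V, b, hx, hb⟩ := h x
  obtain ⟨_, ⟨U, hU, rfl⟩, hxU, hUV⟩ := X.isBasis_affineOpens.exists_subset_of_mem_open (show x ∈ V from hx) V.2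
  obtain ⟨φ, hφ⟩ := Groth.L12.ExtSh.isExtPow_wedgeMod M m
  obtain ⟨ks⟩ := Groth.L18.PlkAlg.exists_enum m n
  have := Groth.L12.ExtSh.isBasisOn_extPow φ hφ (U := ⟨U, hU⟩) (hb.mono hUV) ks
  have h0 : n.choose m = 0 := Nat.choose_eq_zero_of_lt (by omega)
  revert this
  generalize (fun k => (φ ⟨U, hU⟩).symm _) = f
  revert f
  rw [h0]
  exact fun f hf => ⟨U, f, hxU, hf⟩

/-- The structure module of a closed and open subset, extended by zero. -/
def lineOn (W : X.Opens) : X.Modules :=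
  (Scheme.Modules.pushforward W.ι).obj (Coh.structureModule W.toScheme)

theorem hasRk_lineOn_mem {W : X.Opens} {x : X} (hx : x ∈ W) : HasRk (lineOn W) x 1 :=
  hasRk_of_iso_free (asIso ((Scheme.Modules.restrictAdjunction W.ι).counit.app (Coh.structureModule W.toScheme)) ≪≫
    (uniqueIsoFree W.toScheme).symm) hx
where
  uniqueIsoFree (Y : Scheme.{u}) : FlatMod.freeMod Y 1 ≅ Coh.structureModule Y :=
    coproductUniqueIso (fun _ : Fin 1 => Coh.structureModule Y)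

theorem hasRk_lineOn_not_mem {W : X.Opens} (hW : IsClosed (W : Set X)) {x : X} (hx : x ∉ W) :
    HasRk (lineOn W) x 0 := by
  refine ⟨⟨(W : Set X)ᶜ, hW.isOpen_compl⟩, Fin.elim0, hx, fun V h => ?_⟩
  have hbot : W.ι ⁻¹ᵁ V = ⊥ := by
    ext y
    exact ⟨fun hy => absurd y.2 (h hy), fun hy => hy.elim⟩
  haveI : Subsingleton Γ(lineOn W, V) := by
    show Subsingleton Γ(W.toScheme, W.ι ⁻¹ᵁ V)
    rw [hbot]
    infer_instance
  exact ⟨fun a b _ => Subsingleton.elim a b, fun s => ⟨Fin.elim0, Subsingleton.elim _ _⟩⟩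

theorem subLine_lineOn {W : X.Opens} (hW : IsClosed (W : Set X)) : SubLine (lineOn W) := fun x => by
  by_cases hx : x ∈ W
  · exact ⟨1, le_rfl, hasRk_lineOn_mem hx⟩
  · exact ⟨0, zero_le_one, hasRk_lineOn_not_mem hW hx⟩

/-- A bundle with ranks in `[k, N]` plus sub-lines has constant rank. -/
theorem exists_pad (N : ℕ) : ∀ (j : ℕ) (E : X.Modules), (∀ x, ∃ n, HasRk E x n ∧ N ≤ n + j ∧ n ≤ N) →
    ∃ (E' : X.Modules) (F : Fin j → X.Modules), FlatMod.IsFinLocFreeOfRank N E' ∧ (∀ i, SubLine (F i)) ∧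
      ∀ {G : Type (u + 1)} [AddCommGroup G] (φ : X.Modules → G),
        (∀ A B : X.Modules, FlatMod.IsFinLocFree A → FlatMod.IsFinLocFree B → φ (A ⊞ B) = φ A + φ B) →
        φ E' = φ E + ∑ i, φ (F i)
  | 0, E, h => ⟨E, Fin.elim0, rank_of_hasRk fun x => by
      obtain ⟨n, hn, h1, h2⟩ := h x
      obtain rfl : n = N := by omega
      exact hn, fun i => i.elim0, fun φ _ => by simp⟩
  | j + 1, E, h => by
    let W : X.Opens := ⟨{x | ∃ n < N, HasRk E x n}, isOpen_iff_forall_mem_open.2 fun x ⟨n, hn, V, b, hx, hb⟩ =>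
      ⟨V, fun y hy => ⟨n, hn, V, b, hy, hb⟩, V.2, hx⟩⟩
    have hW : IsClosed (W : Set X) := ⟨isOpen_iff_forall_mem_open.2 fun x hx => by
      obtain ⟨n, ⟨V, b, hxV, hb⟩, -, hle⟩ := h x
      refine ⟨V, fun y hy hyW => ?_, V.2, hxV⟩
      obtain ⟨n', hn', hy'⟩ := hyW
      obtain rfl := hy'.unique ⟨V, b, hy, hb⟩
      exact hx ⟨n', hn', V, b, hxV, hb⟩⟩
    have hE : FlatMod.IsFinLocFree E := isFinLocFree_of_hasRk fun x => ⟨_, (h x).choose_spec.1⟩
    have hL := subLine_lineOn hW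
    obtain ⟨E', F, hE', hF, hφ⟩ := exists_pad N j (E ⊞ lineOn W) fun x => by
      obtain ⟨n, hn, h1, h2⟩ := h x
      by_cases hx : x ∈ W
      · obtain ⟨n', hn', hr⟩ := hx
        obtain rfl := hr.unique hn
        exact ⟨n' + 1, hn.biprod (hasRk_lineOn_mem ⟨n', hn', hr⟩), by omega, by omega⟩
      · have : ¬ n < N := fun hlt => hx ⟨n, hlt, hn⟩
        exact ⟨n + 0, hn.biprod (hasRk_lineOn_not_mem hW hx), by omega, by omega⟩
    refine ⟨E', Fin.cons (lineOn W) F, hE', fun i => ?_, fun φ hadd => ?_⟩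
    · induction i using Fin.cases with
      | zero => exact hL
      | succ i => simpa only [Fin.cons_succ] using hF i
    · rw [hφ φ hadd, hadd _ _ hE hL.vb, Fin.sum_univ_succ, Fin.cons_zero, add_assoc]
      simp only [Fin.cons_succ]

/-- Ranks are bounded on a quasi-compact scheme. -/
theorem exists_rank_bound [CompactSpace X] {E : X.Modules} (hE : FlatMod.IsFinLocFree E) :
    ∃ N, ∀ x, ∃ n, HasRk E x n ∧ N ≤ n + N ∧ n ≤ N := by
  choose n V b hx hb using fun x => exists_hasRk hE x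
  obtain ⟨t, ht⟩ := isCompact_univ.elim_finite_subcover (fun x : X => (V x : Set X)) (fun x => (V x).2)
    (fun x _ => Set.mem_iUnion.2 ⟨x, hx x⟩)
  refine ⟨t.sup n, fun x => ?_⟩
  obtain ⟨y, hy, hxy⟩ := Set.mem_iUnion₂.1 (ht (Set.mem_univ x))
  exact ⟨n y, ⟨V y, b y, hxy, hb y⟩, Nat.le_add_left _ _, Finset.le_sup hy⟩

end Groth.L12.KBunQ
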