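import Groth.Agent.L12.KBunQ.Basis
import Groth.Agent.L12.KBunQ.SubLine
import Groth.Agent.L08.Lambda.SplitSpecial
import Groth.Agent.L12.KRR.Pull
import Groth.Agent.L18.Grass.QuotExist
import Groth.Agent.L08.Cube.Inverse

/-!
# Splitting over a quasi-compact base: the ring of bundles is a special λ-ring
-/

set_option autoImplicit false
set_option maxHeartbeats 400000
set_option linter.style.haveILetI false
set_option linter.unusedSectionVars false
set_option backward.isDefEq.respectTransparency false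
set_option backward.isDefEq.respectTransparency.types false

universe v u

open CategoryTheory CategoryTheory.Limits AlgebraicGeometry TopologicalSpace Opposite LambdaRing

noncomputable section

namespace Groth.L12.KBunQ

open Groth.L12.Kvb (KR toKR)
open Groth.L12.ExtSh (wedgeMod)
open Groth.L00.Tensor (tensorComm)
open MvPolynomial Groth.L08.Lambda Groth.L22.Lambda Finset

section Lines

variable {A : Type v} [CommRing A] [LambdaOps A]

/-- A set of line elements. -/
structure LineSet (P : A → Prop) : Prop where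
  one : P 1
  mul : ∀ a b, P a → P b → P (a * b)
  lam : ∀ a, P a → ∀ n, 2 ≤ n → LambdaOps.lam n a = 0

variable {P : A → Prop} (H : LineSet P) {u : ℕ → A}

include H in
theorem exists_lam_monomials (hu : ∀ a, P (u a)) (z : MvPolynomial ℕ ℤ) (n : ℕ) :
    ∃ w, aeval u w = LambdaOps.lam n (aeval u z) ∧ lineMap w = LambdaOps.lam n (lineMap z) := by
  let S : AddSubgroup (MvPolynomial ℕ ℤ) :=
    { carrier := {z | ∀ n, ∃ w, aeval u w = LambdaOps.lam n (aeval u z) ∧
        lineMap w = LambdaOps.lam n (lineMap z)}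
      zero_mem' := fun n => ⟨if n = 0 then 1 else 0, by
        rcases n with - | n <;> simp [LambdaOps.lam_zero, lam_succ_zero]⟩
      add_mem' := fun {a b} ha hb n => by
        choose wa hwa hwa' using ha
        choose wb hwb hwb' using hb
        refine ⟨∑ i ∈ range (n + 1), wa i * wb (n - i), ?_, ?_⟩
        · simp only [map_sum, map_mul, map_add, hwa, hwb, LambdaOps.lam_add]
        · simp only [map_sum, map_mul, map_add, hwa', hwb', LambdaOps.lam_add]
      neg_mem' := fun {a} ha n => by
        induction n using Nat.strong_induction_on with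
        | _ n ih =>
          rcases n with - | n
          · exact ⟨1, by simp [LambdaOps.lam_zero]⟩
          choose wa hwa hwa' using ha
          choose wn hwn hwn' using fun i : Fin (n + 1) => ih (n - (i : ℕ)) (by omega)
          refine ⟨-∑ i : Fin (n + 1), wa ((i : ℕ) + 1) * wn i, ?_, ?_⟩
          · simp only [map_neg, map_sum, map_mul, hwa, hwn, lam_neg_succ]
            rw [Fin.sum_univ_eq_sum_range
              (fun i => LambdaOps.lam (i + 1) (aeval u a) * LambdaOps.lam (n - i) (-aeval u a))]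
          · simp only [map_neg, map_sum, map_mul, hwa', hwn', lam_neg_succ]
            rw [Fin.sum_univ_eq_sum_range
              (fun i => LambdaOps.lam (i + 1) (lineMap a) * LambdaOps.lam (n - i) (-lineMap a))] }
  have hmono : ∀ e : ℕ →₀ ℕ, monomial e (1 : ℤ) ∈ S := by
    intro e n
    refine ⟨if n = 0 then 1 else if n = 1 then monomial e 1 else 0, ?_, ?_⟩
    · have hline : P (aeval u (monomial e (1 : ℤ))) := by
        rw [aeval_monomial, map_one, one_mul, Finsupp.prod]
        refine Finset.prod_induction _ P H.mul H.one fun a _ => ?_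
        induction e a with
        | zero => rw [pow_zero]; exact H.one
        | succ k ih => rw [pow_succ]; exact H.mul _ _ ih (hu a)
      rcases n with - | - | n
      · simp [LambdaOps.lam_zero]
      · simp [LambdaOps.lam_one]
      · rw [H.lam _ hline _ (by omega)]; simp
    · rw [lam_lineMap_monomial]
      split_ifs <;> simp
  have hz : z ∈ S := by
    rw [z.as_sum]
    refine sum_mem fun e _ => ?_
    rw [show monomial e (z.coeff e) = (z.coeff e) • monomial e (1 : ℤ) by
      rw [smul_monomial, smul_eq_mul, mul_one]]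
    exact zsmul_mem (hmono e) _
  exact hz n

include H in
theorem lam_mul_monomials (hu : ∀ a, P (u a)) (zx zy : MvPolynomial ℕ ℤ) (n : ℕ)
    (M : MvPolynomial (Fin n ⊕ Fin n) ℤ) (hM : IsMulPoly n M) :
    LambdaOps.lam n (aeval u zx * aeval u zy) =
      aeval (Sum.elim (fun k : Fin n => LambdaOps.lam ((k : ℕ) + 1) (aeval u zx))
        (fun k : Fin n => LambdaOps.lam ((k : ℕ) + 1) (aeval u zy))) M := by
  obtain ⟨w, hw, hw'⟩ := exists_lam_monomials H hu (zx * zy) n
  choose wx hwx hwx' using fun k => exists_lam_monomials H hu zx k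
  choose wy hwy hwy' using fun k => exists_lam_monomials H hu zy k
  have e : w = aeval (Sum.elim (fun k : Fin n => wx ((k : ℕ) + 1))
      (fun k : Fin n => wy ((k : ℕ) + 1))) M := by
    apply lineMap_injective
    rw [hw', map_mul, Mdl.isSpecial.lam_mul n M hM]
    rw [map_aeval_int]
    refine congrArg (fun f => aeval f M) (funext fun k => ?_)
    rcases k with k | k
    · exact (hwx' _).symm
    · exact (hwy' _).symm
  rw [← map_mul, ← hw, e]
  refine (map_aeval_int (aeval u : MvPolynomial ℕ ℤ →ₐ[ℤ] A).toRingHom _ M).trans ?_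
  refine congrArg (fun f => aeval f M) (funext fun k => ?_)
  rcases k with k | k
  · exact hwx _
  · exact hwy _

include H in
theorem lam_lam_monomials (hu : ∀ a, P (u a)) (z : MvPolynomial ℕ ℤ) (i j : ℕ)
    (M : MvPolynomial (Fin (i * j)) ℤ) (hM : IsCompPoly i j M) :
    LambdaOps.lam j (LambdaOps.lam i (aeval u z)) =
      aeval (fun k : Fin (i * j) => LambdaOps.lam ((k : ℕ) + 1) (aeval u z)) M := by
  choose w hw hw' using fun k => exists_lam_monomials H hu z k
  obtain ⟨t, ht, ht'⟩ := exists_lam_monomials H hu (w i) j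
  have e : t = aeval (fun k : Fin (i * j) => w ((k : ℕ) + 1)) M := by
    apply lineMap_injective
    rw [ht', hw', Mdl.isSpecial.lam_lam i j M hM]
    rw [map_aeval_int]
    exact congrArg (fun f => aeval f M) (funext fun k => (hw' _).symm)
  rw [← hw i, ← ht, e]
  refine (map_aeval_int (aeval u : MvPolynomial ℕ ℤ →ₐ[ℤ] A).toRingHom _ M).trans ?_
  exact congrArg (fun f => aeval f M) (funext fun k => hw _)

/-- The additive span of lines. -/
def InLines (P : A → Prop) (z : A) : Prop := z ∈ AddSubgroup.closure {a | P a}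

include H in
/-- Finitely many combinations of lines are polynomials in one sequence of lines. -/
theorem exists_seq {x y : A} (hx : InLines P x) (hy : InLines P y) : ∃ u : ℕ → A, (∀ a, P (u a)) ∧
    (∃ z : MvPolynomial ℕ ℤ, aeval u z = x) ∧ ∃ z : MvPolynomial ℕ ℤ, aeval u z = y := by
  have key : ∀ z, InLines P z → ∃ l : List A, (∀ a ∈ l, P a) ∧
      ∀ (u : ℕ → A), (∀ a ∈ l, ∃ k, u k = a) → z ∈ (aeval u : MvPolynomial ℕ ℤ →ₐ[ℤ] A).range := by
    intro z hz
    induction hz using AddSubgroup.closure_induction with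
    | mem a ha =>
      refine ⟨[a], fun b hb => by obtain rfl := List.mem_singleton.1 hb; exact ha, fun u hu => ?_⟩
      obtain ⟨k, hk⟩ := hu a List.mem_cons_self
      exact ⟨X k, (aeval_X u k).trans hk⟩
    | zero => exact ⟨[], by simp, fun u _ => zero_mem _⟩
    | add a b _ _ iha ihb =>
      obtain ⟨la, ha, ha'⟩ := iha
      obtain ⟨lb, hb, hb'⟩ := ihb
      exact ⟨la ++ lb, fun c hc => (List.mem_append.1 hc).elim (ha c) (hb c), fun u hu =>
        add_mem (ha' u fun c hc => hu c (List.mem_append_left _ hc))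
          (hb' u fun c hc => hu c (List.mem_append_right _ hc))⟩
    | neg a _ iha =>
      obtain ⟨la, ha, ha'⟩ := iha
      exact ⟨la, ha, fun u hu => neg_mem (ha' u hu)⟩
  obtain ⟨lx, hlx, hlx'⟩ := key x hx
  obtain ⟨ly, hly, hly'⟩ := key y hy
  let u : ℕ → A := fun k => (lx ++ ly).getD k 1
  have hu : ∀ a ∈ lx ++ ly, ∃ k, u k = a := fun a ha => by
    obtain ⟨k, hk, rfl⟩ := List.getElem_of_mem ha
    exact ⟨k, List.getD_eq_getElem _ 1 hk⟩
  refine ⟨u, fun k => ?_, hlx' u fun a ha => hu a (List.mem_append_left _ ha),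
    hly' u fun a ha => hu a (List.mem_append_right _ ha)⟩
  by_cases h : k < (lx ++ ly).length
  · simp only [u, List.getD_eq_getElem _ _ h]
    exact (List.mem_append.1 (List.getElem_mem h)).elim (hlx _) (hly _)
  · simp only [u, List.getD_eq_default _ _ (not_lt.1 h)]
    exact H.one

end Lines

variable {X : Scheme.{u}}

/-- Classes of bundles of rank at most one. -/
def Line (z : KR X) : Prop := ∃ M : X.Modules, SubLine M ∧ z = kc X M

theorem rankOne_O : FlatMod.IsFinLocFreeOfRank 1 (Coh.structureModule X) := 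
  Groth.L18.KRRAmple.isRankOne_of_isInvertible (Groth.L18.Ample.isInvertible_structureModule X)

theorem kc_biprod {A B : X.Modules} (hA : FlatMod.IsFinLocFree A) (hB : FlatMod.IsFinLocFree B) :
    kc X (A ⊞ B) = kc X A + kc X B :=
  kc_shortExact (ShortComplex.Splitting.ofHasBinaryBiproduct A B).shortExact hA
    (Groth.L29.LocFree.biprod hA hB) hB

/-- Every element is a difference of classes of bundles. -/
theorem exists_kc_sub (x : KR X) : ∃ E F : X.Modules, FlatMod.IsFinLocFree E ∧ FlatMod.IsFinLocFree F ∧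
    x = kc X E - kc X F := by
  let D : AddSubgroup (KR X) :=
    { carrier := {x | ∃ E F : X.Modules, FlatMod.IsFinLocFree E ∧ FlatMod.IsFinLocFree F ∧
        x = kc X E - kc X F}
      zero_mem' := ⟨_, _, Groth.L12.Kvb.isFinLocFree_O, Groth.L12.Kvb.isFinLocFree_O, (sub_self _).symm⟩
      add_mem' := by
        rintro _ _ ⟨E, F, hE, hF, rfl⟩ ⟨E', F', hE', hF', rfl⟩
        refine ⟨E ⊞ E', F ⊞ F', Groth.L29.LocFree.biprod hE hE', Groth.L29.LocFree.biprod hF hF', ?_⟩
        rw [kc_biprod hE hE', kc_biprod hF hF']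
        abel
      neg_mem' := by
        rintro _ ⟨E, F, hE, hF, rfl⟩
        exact ⟨F, E, hF, hE, neg_sub _ _⟩ }
  have h : QuotientAddGroup.mk' D = 0 := KR_hom_ext fun E hE => (QuotientAddGroup.eq_zero_iff _).2
    ⟨E ⊞ E, E, Groth.L29.LocFree.biprod hE hE, hE, by rw [kc_biprod hE hE, add_sub_cancel_right]⟩
  exact (QuotientAddGroup.eq_zero_iff (N := D) x).1 (DFunLike.congr_fun h x)

theorem lineSet : LineSet (Line : KR X → Prop) where
  one := ⟨_, subLine_of_rank_one rankOne_O, rfl⟩
  mul := by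
    rintro _ _ ⟨M, hM, rfl⟩ ⟨N, hN, rfl⟩
    exact ⟨_, hM.tensor hN, (kc_tensor hM.vb hN.vb).symm⟩
  lam := by
    rintro _ ⟨M, hM, rfl⟩ n hn
    haveI := Groth.L29.DC.PCQCoh.isQCoh_of_isFinLocFree hM.vb
    exact (Groth.L12.Kvb.lam_cl hM.vb (Groth.L12.ExtSh.isExtPow_wedgeMod M n)).trans (kc_zero (hM.isZero_wedge hn))

/-- A splitting extension: an injective pullback. -/
structure Split (X X' : Scheme.{u}) (g : KR X →+* KR X') : Prop where
  inj : Function.Injective g
  lam : ∀ i x, g (LambdaOps.lam i x) = LambdaOps.lam i (g x)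
  line : ∀ z, Line z → Line (g z)
  bundle : ∀ E, FlatMod.IsFinLocFree E → ∃ E', FlatMod.IsFinLocFree E' ∧ g (kc X E) = kc X' E'

theorem Split.refl (X : Scheme.{u}) : Split X X (RingHom.id _) :=
  ⟨Function.injective_id, fun _ _ => rfl, fun _ h => h, fun E hE => ⟨E, hE, rfl⟩⟩

theorem Split.comp {X X' X'' : Scheme.{u}} {g : KR X →+* KR X'} {g' : KR X' →+* KR X''} (h : Split X X' g)
    (h' : Split X' X'' g') : Split X X'' (g'.comp g) :=
  ⟨h'.inj.comp h.inj, fun i x => by rw [RingHom.comp_apply, h.lam, h'.lam]; rfl,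
    fun z hz => h'.line _ (h.line z hz), fun E hE => by
      obtain ⟨E', hE', he⟩ := h.bundle E hE
      obtain ⟨E'', hE'', he'⟩ := h'.bundle E' hE'
      exact ⟨E'', hE'', by rw [RingHom.comp_apply, he, he']⟩⟩

theorem Split.inLines {X X' : Scheme.{u}} {g : KR X →+* KR X'} (h : Split X X' g) {z : KR X}
    (hz : InLines Line z) : InLines Line (g z) := by
  have hle : AddSubgroup.closure {a : KR X | Line a} ≤
      (AddSubgroup.closure {a : KR X' | Line a}).comap g.toAddMonoidHom :=
    (AddSubgroup.closure_le _).2 fun a ha => AddSubgroup.subset_closure (h.line a ha)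
  exact hle hz

theorem lam_pull {Y : Scheme.{u}} (f : Y ⟶ X) {g : KR X →+* KR Y}
    (hg : ∀ M, FlatMod.IsFinLocFree M → g (kc X M) = kc Y ((Scheme.Modules.pullback f).obj M))
    (i : ℕ) (x : KR X) : g (LambdaOps.lam i x) = LambdaOps.lam i (g x) := by
  have key : ∀ (E : X.Modules), FlatMod.IsFinLocFree E → ∀ j,
      g (LambdaOps.lam j (kc X E)) = LambdaOps.lam j (g (kc X E)) := fun E hE j => by
    have hE' := Groth.L29.LocFree.pullback f hE
    haveI := Groth.L29.DC.PCQCoh.isQCoh_of_isFinLocFree hE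
    haveI := Groth.L29.DC.PCQCoh.isQCoh_of_isFinLocFree hE'
    have hL := Groth.L12.ExtSh.isExtPow_wedgeMod E j
    have hL' := Groth.L12.ExtSh.isExtPow_wedgeMod ((Scheme.Modules.pullback f).obj E) j
    have hLf := Groth.L12.ExtSh.isFinLocFree_wedgeMod hE j
    obtain ⟨e⟩ := Groth.L12.ExtSh.nonempty_pullback_extPow_iso f hE hL hL'
    calc g (LambdaOps.lam j (kc X E)) = g (kc X (wedgeMod E j)) := congrArg g (Groth.L12.Kvb.lam_cl hE hL)
      _ = kc Y ((Scheme.Modules.pullback f).obj (wedgeMod E j)) := hg _ hLf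
      _ = kc Y (wedgeMod ((Scheme.Modules.pullback f).obj E) j) := kc_iso e (Groth.L29.LocFree.pullback f hLf)
      _ = LambdaOps.lam j (kc Y ((Scheme.Modules.pullback f).obj E)) := (Groth.L12.Kvb.lam_cl hE' hL').symm
      _ = LambdaOps.lam j (g (kc X E)) := by rw [hg E hE]
  obtain ⟨E, F, hE, hF, rfl⟩ := exists_kc_sub x
  exact Groth.L12.KRR.lam_sub_induction (fun j x => g (LambdaOps.lam j x))
    (fun x => by rw [LambdaOps.lam_zero, map_one])
    (fun k x x' => by simp only [LambdaOps.lam_add, map_sum, map_mul])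
    (fun j x => LambdaOps.lam j (g x)) (fun x => LambdaOps.lam_zero _)
    (fun k x x' => by simp only [map_add, LambdaOps.lam_add]) (key E hE) (key F hF) i

theorem split_of_pull {Y : Scheme.{u}} (f : Y ⟶ X) {g : KR X →+* KR Y} (hinj : Function.Injective g)
    (hg : ∀ M, FlatMod.IsFinLocFree M → g (kc X M) = kc Y ((Scheme.Modules.pullback f).obj M)) :
    Split X Y g where
  inj := hinj
  lam := lam_pull f hg
  line := by
    rintro _ ⟨M, hM, rfl⟩
    exact ⟨_, hM.pullback f, hg M hM.vb⟩
  bundle E hE := ⟨_, Groth.L29.LocFree.pullback f hE, hg E hE⟩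

/-- The splitting principle for a bundle of constant rank. -/
theorem exists_split_rank : ∀ (m : ℕ) (X : Scheme.{u}) [CompactSpace X] (E : X.Modules),
    FlatMod.IsFinLocFreeOfRank m E → ∃ (X' : Scheme.{u}) (_ : CompactSpace X') (g : KR X →+* KR X'),
      Split X X' g ∧ InLines Line (g (kc X E)) := by
  intro m
  induction m with
  | zero =>
    intro X _ E hE
    refine ⟨X, inferInstance, _, Split.refl X, ?_⟩
    rw [RingHom.id_apply, kc_zero (Groth.L12.Kvb.isZero_of_rank_zero hE)]
    exact zero_mem _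
  | succ m ih =>
    intro X _ E hE
    haveI := Groth.L29.DC.PCQCoh.isQCoh_of_isFinLocFree (Groth.L18.KRRAmple.isFinLocFree_of_rank hE)
    obtain ⟨P, π, O1, q, hG⟩ := Groth.L18.QuotExist.exists_isGrass E 1
    have hP := hG.isProjBundle
    obtain ⟨A⟩ := Groth.L12.KBun.exists_atlas hP hE
    haveI : IsProper π := A.isProper
    haveI : CompactSpace P := QuasiCompact.compactSpace_of_compactSpace π
    have hO := Groth.L22.GenRank.isInvertible_of_rank_one hP.invertible
    obtain ⟨L, hL, ⟨eL⟩⟩ := Groth.L08.Cube.exists_inverse hO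
    have D : Setup π q L m :=
      ⟨hP.epi, hP.invertible, hE, hL, ⟨tensorComm L O1 ≪≫ eL⟩⟩
    haveI := Groth.L29.DC.PCQCoh.isQCoh_of_isFinLocFree (Groth.L18.KRRAmple.isFinLocFree_of_rank hP.invertible)
    haveI := Groth.L29.DC.PCQCoh.isQCoh_of_isFinLocFree D.vbW
    obtain ⟨g, hg⟩ := exists_pull π
    have hinj : Function.Injective g := by
      intro a b hab
      have hb := (D.bijective_combInv A g hg).1 (a₁ := Pi.single 0 a) (a₂ := Pi.single 0 b) ?_
      · simpa using congrFun hb 0
      rw [Setup.combInv_apply, Setup.combInv_apply, Finset.sum_eq_single (0 : Fin (m + 1)),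
        Finset.sum_eq_single (0 : Fin (m + 1))]
      · simp only [Pi.single_eq_same, hab]
      all_goals first
        | exact fun h => absurd (Finset.mem_univ _) h
        | exact fun j _ hj => by rw [Pi.single_eq_of_ne hj, map_zero, zero_mul]
    obtain ⟨X', _, g', hg', hs⟩ := ih P (Groth.L12.KBun.tautSC q).X₁ (rank_taut hP.epi hP.invertible hE)
    refine ⟨X', inferInstance, g'.comp g, (split_of_pull π hinj hg).comp hg', ?_⟩
    rw [RingHom.comp_apply, hg E D.vbE]
    have hkc : kc P ((Scheme.Modules.pullback π).obj E) = kc P (Groth.L12.KBun.tautSC q).X₁ + kc P O1 :=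
      kc_shortExact (shortExact_tautSC hP.epi) D.vbW (Groth.L29.LocFree.pullback π D.vbE)
        (Groth.L18.KRRAmple.isFinLocFree_of_rank hP.invertible)
    rw [hkc, map_add]
    exact add_mem hs (AddSubgroup.subset_closure (hg'.line _ ⟨O1, subLine_of_rank_one hP.invertible, rfl⟩))

/-- The splitting principle for a bundle. -/
theorem exists_split [CompactSpace X] {E : X.Modules} (hE : FlatMod.IsFinLocFree E) :
    ∃ (X' : Scheme.{u}) (_ : CompactSpace X') (g : KR X →+* KR X'), Split X X' g ∧ InLines Line (g (kc X E)) := by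
  obtain ⟨N, hN⟩ := exists_rank_bound hE
  obtain ⟨E', F, hE', hF, hφ⟩ := exists_pad N N E hN
  obtain ⟨X', hc, g, hg, hs⟩ := exists_split_rank N X E' hE'
  refine ⟨X', hc, g, hg, ?_⟩
  have h := hφ (fun M => kc X M) fun A B hA hB => kc_biprod hA hB
  rw [eq_sub_of_add_eq h.symm, map_sub, map_sum]
  exact sub_mem hs (sum_mem fun i _ => AddSubgroup.subset_closure (hg.line _ ⟨F i, hF i, rfl⟩))

theorem exists_split_elem [CompactSpace X] (x : KR X) :
    ∃ (X' : Scheme.{u}) (_ : CompactSpace X') (g : KR X →+* KR X'), Split X X' g ∧ InLines Line (g x) := by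
  obtain ⟨E, F, hE, hF, rfl⟩ := exists_kc_sub x
  obtain ⟨X₁, _, g₁, hg₁, h₁⟩ := exists_split hE
  obtain ⟨F', hF', hFe⟩ := hg₁.bundle F hF
  obtain ⟨X₂, hc, g₂, hg₂, h₂⟩ := exists_split hF'
  refine ⟨X₂, hc, g₂.comp g₁, hg₁.comp hg₂, ?_⟩
  rw [map_sub, RingHom.comp_apply, RingHom.comp_apply, hFe]
  exact sub_mem (hg₂.inLines h₁) h₂

/-- The ring of bundles over a quasi-compact scheme is a special λ-ring. -/
theorem isSpecial_KR [CompactSpace X] : IsSpecial (KR X) := by
  refine ⟨fun n hn => lineSet.lam _ lineSet.one n hn, fun n M hM x y => ?_, fun i j M hM x => ?_⟩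
  · obtain ⟨X₁, _, g₁, hg₁, h₁⟩ := exists_split_elem x
    obtain ⟨X₂, _, g₂, hg₂, h₂⟩ := exists_split_elem (g₁ y)
    obtain ⟨u, hu, ⟨zx, hx⟩, zy, hy⟩ := exists_seq lineSet (hg₂.inLines h₁) h₂
    have hf := hg₁.comp hg₂
    change aeval u zx = g₂.comp g₁ x at hx
    change aeval u zy = g₂.comp g₁ y at hy
    apply hf.inj
    rw [hf.lam, map_mul, ← hx, ← hy, lam_mul_monomials lineSet hu zx zy n M hM, map_aeval_int (g₂.comp g₁)]
    refine congrArg (fun g => aeval g M) (funext fun k => ?_)
    rcases k with k | k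
    · exact (congrArg _ hx).trans (hf.lam _ _).symm
    · exact (congrArg _ hy).trans (hf.lam _ _).symm
  · obtain ⟨X₁, _, g₁, hg₁, h₁⟩ := exists_split_elem x
    obtain ⟨u, hu, ⟨zx, hx⟩, -⟩ := exists_seq lineSet h₁ h₁
    apply hg₁.inj
    rw [hg₁.lam, hg₁.lam, ← hx, lam_lam_monomials lineSet hu zx i j M hM, map_aeval_int g₁]
    exact congrArg (fun g => aeval g M) (funext fun k => (congrArg _ hx).trans (hg₁.lam _ _).symm)

end Groth.L12.KBunQ

namespace Groth.L12.KRR

/-- `lam_sub_induction` with independent universes. -/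
theorem lam_sub_induction' {A : Type*} [CommRing A] [LambdaOps A] {B : Type*} [CommRing B] [LambdaOps B]
    (Φ : ℕ → A → B) (hΦ0 : ∀ x, Φ 0 x = 1)
    (hadd : ∀ (k : ℕ) (x y : A), Φ k (x + y) = ∑ i ∈ Finset.range (k + 1), Φ i x * Φ (k - i) y)
    (Ψ : ℕ → A → B) (hΨ0 : ∀ x, Ψ 0 x = 1)
    (hadd' : ∀ (k : ℕ) (x y : A), Ψ k (x + y) = ∑ i ∈ Finset.range (k + 1), Ψ i x * Ψ (k - i) y)
    {e g : A} (he : ∀ i, Φ i e = Ψ i e) (hg : ∀ i, Φ i g = Ψ i g) (k : ℕ) : Φ k (e - g) = Ψ k (e - g) := by
  induction k using Nat.strong_induction_on with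
  | _ k ih =>
    have h := hadd k (e - g) g
    have h' := hadd' k (e - g) g
    rw [sub_add_cancel, Finset.sum_range_succ, Nat.sub_self] at h h'
    rw [hΦ0, mul_one] at h
    rw [hΨ0, mul_one] at h'
    rw [he k, h', Finset.sum_congr rfl fun i hi => by rw [← ih i (Finset.mem_range.1 hi), ← hg (k - i)]] at h
    exact (add_left_cancel h).symm

end Groth.L12.KRR
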