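import Groth.Agent.L12.KBunQ.Gen

/-!
# The tautological sequence and its exterior powers, over any base
-/

set_option autoImplicit false
set_option maxHeartbeats 400000
set_option linter.style.haveILetI false
set_option linter.unusedSectionVars false
set_option backward.isDefEq.respectTransparency false
set_option backward.isDefEq.respectTransparency.types false

universe u

open CategoryTheory CategoryTheory.Limits AlgebraicGeometry TopologicalSpace Opposite

attribute [local instance] HasDerivedCategory.standard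

noncomputable section

namespace Groth.L12.KBunQ

open Groth.L12.ExtSh (wedgeMod)
open Groth.L00.Tensor (tensorIso tensorRightF tensorUnitRight tensorUnitLeft tensorAssoc tensorComm)
open Groth.L12.KBun (Atlas CV cv_O1 cv_congr cv_left cv_right cv_of_isZero tautSC exists_wedge_shortExact)

section Rank

variable {X : Scheme.{u}}

/-- The rank of the kernel of an epimorphism of bundles. -/
theorem rank_left {T : ShortComplex X.Modules} (hT : T.ShortExact) (h₁ : FlatMod.IsFinLocFree T.X₁) {p q : ℕ}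
    (h₂ : FlatMod.IsFinLocFreeOfRank (p + q) T.X₂) (h₃ : FlatMod.IsFinLocFreeOfRank q T.X₃) :
    FlatMod.IsFinLocFreeOfRank p T.X₁ := fun x => by
  obtain ⟨U, p', q', a, σ, hxU, -, ha, hσ⟩ := Groth.L12.ExtSh.exists_split_bases hT h₁
    (Groth.L18.KRRAmple.isFinLocFree_of_rank h₃) x ⊤ trivial
  have e₃ := Groth.L12.Kvb.rank_eq_of_basis h₃ hxU hσ
  have e₂ := Groth.L12.Kvb.rank_eq_of_basis h₂ hxU (Groth.L12.ExtSh.isBasisOn_append hT ha hσ)
  obtain rfl : p = p' := by omega
  obtain ⟨e⟩ := Groth.L20.ResDescent.nonempty_iso_free (le_of_eq (U.1.ι_preimage_self).symm) (ha.pullback U.1.ι)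
  exact ⟨U.1, hxU, ⟨(Scheme.Modules.restrictFunctorIsoPullback U.1.ι).app T.X₁ ≪≫ e⟩⟩

/-- Exterior powers above the rank vanish. -/
theorem isZero_wedge_of_rank {M : X.Modules} [Coh.IsQCoh M] {n m : ℕ} (hM : FlatMod.IsFinLocFreeOfRank n M) (h : n < m) :
    IsZero (wedgeMod M m) := by
  have := Groth.L12.ExtSh.isFinLocFreeOfRank_of_isExtPow hM (Groth.L12.ExtSh.isExtPow_wedgeMod M m)
  rw [Nat.choose_eq_zero_of_lt h] at this
  exact Groth.L12.Kvb.isZero_of_rank_zero this

/-- The top exterior power is invertible. -/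
theorem isInvertible_wedge_top {M : X.Modules} [Coh.IsQCoh M] {n : ℕ} (hM : FlatMod.IsFinLocFreeOfRank n M) :
    PicF.IsInvertible (wedgeMod M n) := by
  have := Groth.L12.ExtSh.isFinLocFreeOfRank_of_isExtPow hM (Groth.L12.ExtSh.isExtPow_wedgeMod M n)
  rw [Nat.choose_self] at this
  exact Groth.L22.GenRank.isInvertible_of_rank_one this

end Rank

variable {S P : Scheme.{u}} {π : P ⟶ S} {E : S.Modules} {O1 : P.Modules}
  {q : (Scheme.Modules.pullback π).obj E ⟶ O1} (hq : Epi q) (hO1 : FlatMod.IsFinLocFreeOfRank 1 O1) {r : ℕ}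
  (hE : FlatMod.IsFinLocFreeOfRank (r + 1) E)

include hq in
theorem shortExact_tautSC : (tautSC q).ShortExact :=
  { exact := ShortComplex.exact_kernel _, mono_f := inferInstanceAs (Mono (kernel.ι _)), epi_g := hq }

include hq hO1 hE in
theorem isFinLocFree_taut : FlatMod.IsFinLocFree (tautSC q).X₁ := by
  haveI := hq
  exact Groth.L29.DC.isFinLocFree_kernel_of_epi q
    (Groth.L18.KRRAmple.isFinLocFree_of_rank (Groth.L18.MapEpi.isFinLocFreeOfRank_pullback π hE))
    (Groth.L18.KRRAmple.isFinLocFree_of_rank hO1)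

include hq hO1 hE in
theorem rank_taut : FlatMod.IsFinLocFreeOfRank r (tautSC q).X₁ :=
  rank_left (shortExact_tautSC hq) (isFinLocFree_taut hq hO1 hE)
    (Groth.L18.MapEpi.isFinLocFreeOfRank_pullback π hE) hO1

variable [Coh.IsQCoh E] [Coh.IsQCoh (tautSC q).X₁] [Coh.IsQCoh O1]

include hq hO1 hE in
/-- The wedge sequence of the tautological sequence. -/
theorem exists_wedge (i : ℕ) : ∃ T : ShortComplex P.Modules, T.ShortExact ∧
    Nonempty (T.X₁ ≅ wedgeMod (tautSC q).X₁ (i + 1)) ∧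
    Nonempty (T.X₂ ≅ (Scheme.Modules.pullback π).obj (wedgeMod E (i + 1))) ∧
    Nonempty (T.X₃ ≅ CohB1.tensorMod (wedgeMod (tautSC q).X₁ i) O1) := by
  have hE' := Groth.L18.KRRAmple.isFinLocFree_of_rank hE
  have hW := isFinLocFree_taut hq hO1 hE
  have hO := Groth.L18.KRRAmple.isFinLocFree_of_rank hO1
  have hM : FlatMod.IsFinLocFree (tautSC q).X₂ := Groth.L29.LocFree.pullback π hE'
  haveI := Groth.L29.DC.PCQCoh.isQCoh_of_isFinLocFree hM
  haveI : Coh.IsQCoh ((Scheme.Modules.pullback π).obj E) := Groth.L29.DC.PCQCoh.isQCoh_of_isFinLocFree hM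
  haveI : Coh.IsQCoh (tautSC q).X₃ := Groth.L29.DC.PCQCoh.isQCoh_of_isFinLocFree hO
  obtain ⟨T, hT, h₁, ⟨e₂⟩, h₃⟩ := exists_wedge_shortExact (shortExact_tautSC hq) hW hO
    (fun m hm => isZero_wedge_of_rank hO1 hm) i
  obtain ⟨e⟩ := Groth.L12.ExtSh.nonempty_pullback_extPow_iso π hE'
    (Groth.L12.ExtSh.isExtPow_wedgeMod E (i + 1))
    (Groth.L12.ExtSh.isExtPow_wedgeMod ((Scheme.Modules.pullback π).obj E) (i + 1))
  exact ⟨T, hT, h₁, ⟨e₂ ≪≫ e.symm⟩, h₃⟩

variable (A : Atlas π O1 r) {L : P.Modules} (hL : PicF.IsInvertible L) (hLO : ClSub.IsInverseOf L O1)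

include hq hO1 hE hL hLO in
theorem cv_wedge : ∀ (k i : ℕ), i + k = r + 1 → ∀ q' : ℕ, 1 ≤ q' → ∀ d : ℤ, 1 - (i : ℤ) ≤ d →
    CV A q' d (wedgeMod (tautSC q).X₁ i)
  | 0, i, hi, q', _, d, _ => by
    obtain rfl : i = r + 1 := by omega
    exact cv_of_isZero A (isZero_wedge_of_rank (rank_taut hq hO1 hE) (Nat.lt_succ_self r)) q' d
  | k + 1, i, hi, q', hq', d, hd => by
    obtain ⟨T, hT, ⟨e₁⟩, ⟨e₂⟩, ⟨e₃⟩⟩ := exists_wedge hq hO1 hE i
    refine (cv_O1 A (show 1 + (d - 1) = d by omega)).1 ((cv_congr A e₃ q' (d - 1)).1 (cv_right A hT ?_ ?_))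
    · exact (cv_congr A e₂ q' _).2 (cv_pullback A (Groth.L22.GenRank.isInvertible_of_rank_one hO1)
        hL hLO (Groth.L12.ExtSh.isFinLocFree_wedgeMod (Groth.L18.KRRAmple.isFinLocFree_of_rank hE) _) hq' (by omega))
    · exact (cv_congr A e₁ _ _).2 (cv_wedge k (i + 1) (by omega) _ (by omega) _ (by push_cast; omega))

end Groth.L12.KBunQ
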